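import Cfsg.Agent.ReeSThree.CharSums

/-!
# Groups of Ree type: inner products and class sums of the induced functions
-/

set_option autoImplicit false
set_option maxHeartbeats 400000

namespace CfsgLib.ReeSThree

open Cfsg CfsgLib.Chars CfsgLib.Chars.Exceptional
open scoped ComplexConjugate

universe u

variable {G : Type u} [Group G]

theorem sum_one_sub_mul_conj {H : Type u} [Group H] [Fintype H] (l l' : H →* ℂˣ)
    (hl : ∃ b, l b ≠ 1) (hl' : ∃ b, l' b ≠ 1) :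
    ∑ b : H, 2 * (1 - (l b : ℂ)) * conj (2 * (1 - (l' b : ℂ))) =
      4 * ((Nat.card H : ℂ) + ∑ b : H, ((l * l'⁻¹) b : ℂ)) := by
  obtain ⟨a, ha⟩ := hl
  obtain ⟨a', ha'⟩ := hl'
  have h1 := sum_hom_eq_zero l ha
  have h2 : ∑ b : H, (l'⁻¹ b : ℂ) = 0 :=
    sum_hom_eq_zero l'⁻¹ (a := a') (by simpa using ha')
  have e : ∀ b : H, 2 * (1 - (l b : ℂ)) * conj (2 * (1 - (l' b : ℂ))) =
      4 * (1 - (l b : ℂ) - (l'⁻¹ b : ℂ) + ((l * l'⁻¹) b : ℂ)) := by
    intro b
    rw [map_mul, map_sub, map_one, conj_hom, map_ofNat, map_inv]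
    simp
    ring
  rw [Finset.sum_congr rfl fun b _ => e b, ← Finset.mul_sum, Finset.sum_add_distrib,
    Finset.sum_sub_distrib, Finset.sum_sub_distrib, h1, h2, Finset.sum_const, Finset.card_univ,
    nsmul_eq_mul, mul_one, ← Nat.card_eq_fintype_card, sub_zero, sub_zero]

theorem sum_one_sub_self {H : Type u} [Group H] [Fintype H] (l : H →* ℂˣ) (hl : ∃ b, l b ≠ 1) :
    ∑ b : H, 2 * (1 - (l b : ℂ)) * conj (2 * (1 - (l b : ℂ))) = 8 * (Nat.card H : ℂ) := by
  rw [sum_one_sub_mul_conj l l hl hl]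
  simp [MonoidHom.mul_apply, ← Nat.card_eq_fintype_card]
  ring

theorem sum_one_sub_ne {H : Type u} [Group H] [Fintype H] (l l' : H →* ℂˣ) (hl : ∃ b, l b ≠ 1)
    (hl' : ∃ b, l' b ≠ 1) (hne : ∃ b, l' b ≠ l b) :
    ∑ b : H, 2 * (1 - (l b : ℂ)) * conj (2 * (1 - (l' b : ℂ))) = 4 * (Nat.card H : ℂ) := by
  obtain ⟨a, ha⟩ := hne
  rw [sum_one_sub_mul_conj l l' hl hl', sum_hom_eq_zero (l * l'⁻¹) (a := a) ?_, add_zero]
  rw [MonoidHom.mul_apply, MonoidHom.inv_apply]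
  exact fun e => ha (mul_inv_eq_one.1 e).symm

theorem sum_one_sub {H : Type u} [Group H] [Fintype H] (l : H →* ℂˣ) (hl : ∃ b, l b ≠ 1) :
    ∑ b : H, 2 * (1 - (l b : ℂ)) = 2 * (Nat.card H : ℂ) := by
  obtain ⟨a, ha⟩ := hl
  rw [← Finset.mul_sum, Finset.sum_sub_distrib, sum_hom_eq_zero l ha, Finset.sum_const,
    Finset.card_univ, nsmul_eq_mul, mul_one, sub_zero, Nat.card_eq_fintype_card]

/-- The number of pairs of conjugates of `s` with product `h`. -/
noncomputable def pairCount (s h : G) : ℕ :=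
  Nat.card {y : G // IsConj s y ∧ IsConj s (y⁻¹ * h)}

theorem card_tJoin [Finite G] {t : G} {W : Subgroup G} (ht : t * t = 1)
    (hc : ∀ w ∈ W, Commute w t) (htW : t ∉ W) :
    Nat.card (tJoin t W ht hc) = 2 * Nat.card W := by
  classical
  have := Fintype.ofFinite G
  have h := sum_tJoin (W := W) ht hc htW (fun _ => (1 : ℂ))
  simp [← Nat.card_eq_fintype_card] at h
  rw [← two_mul] at h
  exact_mod_cast h

theorem twistFun_mem {t : G} {W : Subgroup G} (htW : t ∉ W) (β : W →* ℂˣ) {w : G} (hw : w ∈ W) :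
    twistFun t W β w = 0 :=
  twistFun_eq_zero β fun h => htW (by simpa using W.mul_mem h (W.inv_mem hw))

theorem exists_of_twistFun {t : G} (ht : t * t = 1) {W : Subgroup G} {β : W →* ℂˣ} {x : G}
    (h : twistFun t W β x ≠ 0) : ∃ w : W, x = t * w := by
  have hx : t * x ∈ W := not_imp_comm.1 (twistFun_eq_zero β) h
  exact ⟨⟨_, hx⟩, by rw [← mul_assoc, ht, one_mul]⟩

theorem indFun_apply_conj [Fintype G] {H : Subgroup G} {Φ : G → ℂ} (h0 : ∀ x, x ∉ H → Φ x = 0)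
    (g : G) : indFun H (fun y : H => Φ y) g = (Nat.card H : ℂ)⁻¹ * ∑ x : G, Φ (x * g * x⁻¹) := by
  rw [indFun]
  congr 1
  simp only [extendByZero_fun h0]
  exact Fintype.sum_equiv (Equiv.inv G) _ _ fun x => by simp

theorem inner_ind_fun [Fintype G] (H M : Subgroup G) [Fintype H] (Θ Φ : G → ℂ)
    (h0 : ∀ x, x ∉ M → Φ x = 0) :
    classInner (indFun H (fun y : H => Θ y)) (indFun M (fun y : M => Φ y)) =
      ((Nat.card H : ℂ) * Nat.card M)⁻¹ *
        ∑ h : H, (fun y : G => Θ y * conj (∑ x : G, Φ (x * y * x⁻¹))) h := by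
  rw [inner_ind]
  simp only [extendByZero_fun h0]

namespace Loc

variable {t : G} {K : Subgroup G} {q : ℕ} {R A : Subgroup G} {v z f : G}
  (L : Loc t K q R A v z f)
include L

theorem zt_conj (b : R) : z * (t * (b : G)) * z⁻¹ = t * ((b⁻¹ : R) : G) := by
  rw [conj_mul', L.zt.eq, mul_inv_cancel_right, L.zR b b.2]; rfl

theorem zv_conj (b : R) : z * (v * (b : G)) * z⁻¹ = v * ((b⁻¹ : R) : G) := by
  rw [conj_mul', L.zv.eq, mul_inv_cancel_right, L.zR b b.2]; rfl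

theorem ztv_conj (b : R) : z * (t * v * (b : G)) * z⁻¹ = t * v * ((b⁻¹ : R) : G) := by
  rw [conj_mul', (L.zt.mul_right L.zv).eq, mul_inv_cancel_right, L.zR b b.2]; rfl

theorem ft_conj (b : R) : f * (t * (b : G)) * f⁻¹ = v * (L.sigma b : G) := by
  rw [conj_mul', L.ft]; rfl

theorem fv_conj (b : R) : f * (v * (b : G)) * f⁻¹ = t * v * (L.sigma b : G) := by
  rw [conj_mul', L.fv]; rfl

theorem ftv_conj (b : R) : f * (t * v * (b : G)) * f⁻¹ = t * (L.sigma b : G) := by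
  rw [conj_mul', L.f_tv]; rfl

theorem comm_R_t : ∀ w ∈ R, Commute w t := fun w hw => (L.R_cent w hw).1

/-- The subgroup `⟨t⟩ R`. -/
def HR : Subgroup G := tJoin t R L.setup.t_mul L.comm_R_t

theorem phiR_off {x : G} (hx : x ∉ L.HR) : twistFun t R (1 : R →* ℂˣ) x = 0 :=
  twistFun_eq_zero _ fun h => hx (Or.inr h)

theorem phiR_t (b : R) : twistFun t R (1 : R →* ℂˣ) (t * b) = 2 := by
  rw [twistFun_mul L.setup.t_mul]; simp

theorem phiR_v [Finite G] (b : R) : twistFun t R (1 : R →* ℂˣ) (v * b) = 0 :=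
  twistFun_eq_zero _ (by
    rw [← mul_assoc]
    exact L.not_mem_R_of_four (Or.inr (Or.inr (Or.inr rfl))) L.tv_ne.1 b.2)

theorem phiR_tv [Finite G] (b : R) : twistFun t R (1 : R →* ℂˣ) (t * v * b) = 0 :=
  twistFun_eq_zero _ (by
    rw [← mul_assoc, ← mul_assoc, L.setup.t_mul, one_mul]
    exact L.not_mem_R_of_four (Or.inr (Or.inr (Or.inl rfl))) L.v1 b.2)

theorem mem_tb (b : R) : t * (b : G) ∈ A := A.mul_mem L.t_mem_A (L.R_le_A b.2)

theorem mem_tvb (b : R) : t * v * (b : G) ∈ A :=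
  A.mul_mem (A.mul_mem L.t_mem_A L.v_mem_A) (L.R_le_A b.2)

theorem exists_of_psi [Finite G] {l : R →* ℂˣ} {x : G} (h : psi t v l x ≠ 0) :
    ∃ d : G, (d = t ∨ d = v ∨ d = t * v) ∧ ∃ b : R, x = d * b := by
  by_cases h1 : t * x ∈ R
  · exact ⟨t, Or.inl rfl, ⟨_, h1⟩, by rw [← mul_assoc, L.setup.t_mul, one_mul]⟩
  by_cases h2 : t * v * x ∈ R
  · exact ⟨t * v, Or.inr (Or.inr rfl), ⟨_, h2⟩, by rw [← mul_assoc (t * v), L.tv_sq, one_mul]⟩
  exact absurd (L.psi_eq_zero_of h1 h2) h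

theorem sum_A_psi [Fintype G] [Fintype A] [Fintype R] (l : R →* ℂˣ) (X : G → ℂ) :
    ∑ a : A, (fun y : G => psi t v l y * X y) a =
      ∑ b : R, 2 * (1 - (l b : ℂ)) * (X (t * b) + X (t * v * b)) := by
  rw [L.sum_A (fun y : G => psi t v l y * X y)]
  simp only [L.psi_R, L.psi_v, L.psi_t, L.psi_tv, zero_mul, Finset.sum_const_zero, add_zero,
    zero_add, ← Finset.sum_add_distrib, ← mul_add]

theorem sum_HR [Fintype G] [Fintype R] [Fintype L.HR] (X : G → ℂ) :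
    ∑ h : L.HR, (fun y : G => twistFun t R (1 : R →* ℂˣ) y * X y) h =
      ∑ b : R, 2 * X (t * b) := by
  unfold HR at *
  rw [sum_tJoin L.setup.t_mul L.comm_R_t L.t_not_mem_R
    (fun y : G => twistFun t R (1 : R →* ℂˣ) y * X y)]
  simp only [twistFun_mem L.t_not_mem_R _ (Subtype.prop _), zero_mul, Finset.sum_const_zero,
    zero_add, L.phiR_t]

theorem card_HR [Finite G] : Nat.card L.HR = 2 * Nat.card R :=
  card_tJoin L.setup.t_mul L.comm_R_t L.t_not_mem_R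

theorem sum_phiR_conj [Fintype G] {y : G} {d : G} (hd : d = t ∨ d = v ∨ d = t * v) (b : R)
    (hb : b ≠ 1) (hy : y = d * b) :
    ∑ x : G, twistFun t R (1 : R →* ℂˣ) (x * y * x⁻¹) = 4 * (Nat.card A : ℂ) ∨ d = v := by
  by_cases hdv : d = v
  · exact Or.inr hdv
  refine Or.inl ?_
  have hb' : (b : G) ≠ 1 := fun e => hb (Subtype.ext e)
  have h0 : ∀ x, twistFun t R (1 : R →* ℂˣ) (x * y * x⁻¹) ≠ 0 →
      ∃ i < 3, ∃ a ∈ A, x = f ^ i * a ∨ x = f ^ i * (z * a) := by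
    intro x hx
    obtain ⟨b', hb2⟩ := exists_of_twistFun L.setup.t_mul hx
    rw [hy] at hb2
    exact L.mem_N_of_conj hd b.2 hb' (Or.inl rfl) b'.2 hb2
  rcases hd with rfl | rfl | rfl
  · rw [L.sum_N (hy ▸ L.mem_tb b) _ h0, hy]
    simp only [L.zt_conj, L.ft_conj, L.fv_conj, L.phiR_t, L.phiR_v, L.phiR_tv]
    ring
  · exact absurd rfl hdv
  · rw [L.sum_N (hy ▸ L.mem_tvb b) _ h0, hy]
    simp only [L.ztv_conj, L.ftv_conj, L.ft_conj, L.phiR_t, L.phiR_v, L.phiR_tv]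
    ring

theorem sum_phiR_t [Fintype G] :
    ∑ x : G, twistFun t R (1 : R →* ℂˣ) (x * t * x⁻¹) =
      2 * (Nat.card (Subgroup.centralizer ({t} : Set G)) : ℂ) := by
  classical
  have key : ∀ x : G, twistFun t R (1 : R →* ℂˣ) (x * t * x⁻¹) =
      if x ∈ Subgroup.centralizer ({t} : Set G) then 2 else 0 := by
    intro x
    split_ifs with hx
    · rw [Subgroup.mem_centralizer_singleton_iff.1 hx, mul_inv_cancel_right]
      simpa using L.phiR_t 1
    · by_contra hne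
      obtain ⟨b, hb⟩ := exists_of_twistFun L.setup.t_mul hne
      apply hx
      have hb1 : (b : G) = 1 := by
        refine L.eq_one_of_sq b.2 ?_
        have h2 : x * t * x⁻¹ * (x * t * x⁻¹) = 1 := by
          rw [← conj_mul', L.setup.t_mul, mul_one, mul_inv_cancel]
        rw [hb, ← pow_two, ((L.R_cent b b.2).1.symm).mul_pow, pow_two, pow_two, L.setup.t_mul,
          one_mul] at h2
        exact h2
      rw [hb1, mul_one] at hb
      exact Subgroup.mem_centralizer_singleton_iff.2 (mul_inv_eq_iff_eq_mul.1 hb)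
  simp only [key]
  rw [Finset.sum_ite, Finset.sum_const_zero, add_zero, Finset.sum_const, nsmul_eq_mul,
    Nat.card_eq_fintype_card, Fintype.card_subtype, mul_comm]

/-- `‖Ind ψ‖² = 10`. -/
theorem inner_AA [Fintype G] [Fintype A] {l : R →* ℂˣ} (hl : ∃ b, l b ≠ 1)
    (hfix : ∀ b, L.sigma b = b → l b = 1) :
    classInner (indFun A (fun x : A => psi t v l x)) (indFun A (fun x : A => psi t v l x)) = 10 := by
  classical
  have := Fintype.ofFinite R
  rw [inner_ind_fun A A _ _ (fun x hx => L.psi_eq_zero l hx),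
    L.sum_A_psi l (fun y => conj (∑ x : G, psi t v l (x * y * x⁻¹)))]
  let p : R → ℂ := fun b => 2 * (1 - (l b : ℂ))
  have key : ∀ b : R, 2 * (1 - (l b : ℂ)) *
      (conj (∑ x : G, psi t v l (x * (t * (b : G)) * x⁻¹)) +
        conj (∑ x : G, psi t v l (x * (t * v * (b : G)) * x⁻¹))) =
      (Nat.card A : ℂ) * (2 * (p b * conj (p b)) + 2 * (p b * conj (p b⁻¹)) +
        p b * conj (p (L.sigma b)) + p b * conj (p (L.sigma b⁻¹)) +
        p b * conj (p (L.sigma (L.sigma b))) + p b * conj (p (L.sigma (L.sigma b⁻¹)))) := by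
    intro b
    by_cases hb : b = 1
    · simp [hb, p]
    have hb' : (b : G) ≠ 1 := fun e => hb (Subtype.ext e)
    have h0 : ∀ d, (d = t ∨ d = v ∨ d = t * v) → ∀ x,
        psi t v l (x * (d * (b : G)) * x⁻¹) ≠ 0 →
        ∃ i < 3, ∃ a ∈ A, x = f ^ i * a ∨ x = f ^ i * (z * a) := by
      intro d hd x hx
      obtain ⟨d', hd', b', hb2⟩ := L.exists_of_psi hx
      exact L.mem_N_of_conj hd b.2 hb' hd' b'.2 hb2
    rw [L.sum_N (L.mem_tb b) _ (h0 t (Or.inl rfl)),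
      L.sum_N (L.mem_tvb b) _ (h0 _ (Or.inr (Or.inr rfl)))]
    simp only [L.zt_conj, L.ztv_conj, L.ft_conj, L.fv_conj, L.ftv_conj, L.psi_t, L.psi_v, L.psi_tv,
      p, map_add, map_mul, Complex.conj_natCast, map_zero]
    ring
  rw [Finset.sum_congr rfl fun b _ => key b, ← Finset.mul_sum]
  simp only [Finset.sum_add_distrib, ← Finset.mul_sum]
  obtain ⟨hz, hs, hsz, hss, hssz⟩ := L.hom_moved hl hfix
  obtain ⟨a, ha⟩ := hl
  have hsur : ∀ c, ∃ b, L.sigma b = c := L.sigma_bijective.2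
  obtain ⟨a₁, ha₁⟩ := hsur a
  obtain ⟨a₂, ha₂⟩ := hsur a₁
  have e1 : ∑ b : R, p b * conj (p b) = 8 * (Nat.card R : ℂ) := sum_one_sub_self l ⟨a, ha⟩
  have e2 : ∑ b : R, p b * conj (p b⁻¹) = 4 * (Nat.card R : ℂ) := by
    have h := sum_one_sub_ne l l⁻¹ ⟨a, ha⟩ ⟨a, by simpa using ha⟩ (by simpa using hz)
    simpa [p] using h
  have e3 : ∑ b : R, p b * conj (p (L.sigma b)) = 4 * (Nat.card R : ℂ) :=
    sum_one_sub_ne l (l.comp L.sigma) ⟨a, ha⟩ ⟨a₁, by simpa [ha₁] using ha⟩ hs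
  have e4 : ∑ b : R, p b * conj (p (L.sigma b⁻¹)) = 4 * (Nat.card R : ℂ) := by
    have h := sum_one_sub_ne l (l.comp L.sigma)⁻¹ ⟨a, ha⟩ ⟨a₁, by simpa [ha₁] using ha⟩
      (by simpa using hsz)
    simpa [p] using h
  have e5 : ∑ b : R, p b * conj (p (L.sigma (L.sigma b))) = 4 * (Nat.card R : ℂ) :=
    sum_one_sub_ne l (l.comp (L.sigma.comp L.sigma)) ⟨a, ha⟩
      ⟨a₂, by simpa [ha₂, ha₁] using ha⟩ hss
  have e6 : ∑ b : R, p b * conj (p (L.sigma (L.sigma b⁻¹))) = 4 * (Nat.card R : ℂ) := by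
    have h := sum_one_sub_ne l (l.comp (L.sigma.comp L.sigma))⁻¹ ⟨a, ha⟩
      ⟨a₂, by simpa [ha₂, ha₁] using ha⟩ (by simpa using hssz)
    simpa [p] using h
  rw [e1, e2, e3, e4, e5, e6, L.card_A, ← L.card_R]
  have : (Nat.card R : ℂ) ≠ 0 := Nat.cast_ne_zero.2 Nat.card_pos.ne'
  push_cast
  field_simp
  ring

/-- `⟨Ind ψ, φ_R⟩ = 8`. -/
theorem inner_AR [Fintype G] [Fintype A] {l : R →* ℂˣ} (hl : ∃ b, l b ≠ 1) :
    classInner (indFun A (fun x : A => psi t v l x))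
      (indFun L.HR (fun x : L.HR => twistFun t R (1 : R →* ℂˣ) x)) = 8 := by
  classical
  have := Fintype.ofFinite R
  rw [inner_ind_fun A L.HR _ _ (fun x hx => L.phiR_off hx),
    L.sum_A_psi l (fun y => conj (∑ x : G, twistFun t R (1 : R →* ℂˣ) (x * y * x⁻¹)))]
  have key : ∀ b : R, 2 * (1 - (l b : ℂ)) *
      (conj (∑ x : G, twistFun t R (1 : R →* ℂˣ) (x * (t * (b : G)) * x⁻¹)) +
        conj (∑ x : G, twistFun t R (1 : R →* ℂˣ) (x * (t * v * (b : G)) * x⁻¹))) =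
      2 * (1 - (l b : ℂ)) * (8 * (Nat.card A : ℂ)) := by
    intro b
    by_cases hb : b = 1
    · simp [hb]
    rw [(L.sum_phiR_conj (Or.inl rfl) b hb rfl).resolve_right L.vt.symm,
      (L.sum_phiR_conj (Or.inr (Or.inr rfl)) b hb rfl).resolve_right L.tv_ne.2.2,
      map_mul, map_ofNat, Complex.conj_natCast]
    ring
  rw [Finset.sum_congr rfl fun b _ => key b, ← Finset.sum_mul, sum_one_sub l hl, L.card_HR,
    L.card_A, ← L.card_R]
  have : (Nat.card R : ℂ) ≠ 0 := Nat.cast_ne_zero.2 Nat.card_pos.ne'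
  push_cast
  field_simp

/-- `|C(t)|` as a complex number. -/
theorem card_C_cast [Finite G] :
    (Nat.card (Subgroup.centralizer ({t} : Set G)) : ℂ) = (q : ℂ) * ((q : ℂ) ^ 2 - 1) := by
  rw [L.setup.card_C, Nat.cast_mul, Nat.cast_sub (Nat.one_le_pow _ _ (by
    have := L.setup.facts.big; omega))]
  push_cast
  ring

theorem card_R_cast [Finite G] : 4 * (Nat.card R : ℂ) = (q : ℂ) + 1 := by
  exact_mod_cast L.card_R

/-- `‖φ_R‖² = 8 (2 q - 3)`. -/
theorem inner_RR [Fintype G] [Fintype L.HR] :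
    classInner (indFun L.HR (fun x : L.HR => twistFun t R (1 : R →* ℂˣ) x))
      (indFun L.HR (fun x : L.HR => twistFun t R (1 : R →* ℂˣ) x)) = 8 * (2 * (q : ℂ) - 3) := by
  classical
  have := Fintype.ofFinite R
  rw [inner_ind_fun L.HR L.HR _ _ (fun x hx => L.phiR_off hx),
    L.sum_HR (fun y => conj (∑ x : G, twistFun t R (1 : R →* ℂˣ) (x * y * x⁻¹)))]
  have key : ∀ b : R, 2 * conj (∑ x : G, twistFun t R (1 : R →* ℂˣ) (x * (t * (b : G)) * x⁻¹)) =
      8 * (Nat.card A : ℂ) + (if b = 1 then 4 * (Nat.card (Subgroup.centralizer ({t} : Set G)) : ℂ)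
        - 8 * (Nat.card A : ℂ) else 0) := by
    intro b
    split_ifs with hb
    · subst hb
      rw [show t * ((1 : R) : G) = t by simp, L.sum_phiR_t, map_mul, map_ofNat, Complex.conj_natCast]
      ring
    · rw [(L.sum_phiR_conj (Or.inl rfl) b hb rfl).resolve_right L.vt.symm, map_mul, map_ofNat,
        Complex.conj_natCast]
      ring
  rw [Finset.sum_congr rfl fun b _ => key b, Finset.sum_add_distrib, Finset.sum_ite_eq',
    if_pos (Finset.mem_univ _), Finset.sum_const, Finset.card_univ, nsmul_eq_mul,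
    ← Nat.card_eq_fintype_card, L.card_HR, L.card_C_cast, L.card_A, ← L.card_R]
  have hq : (q : ℂ) = 4 * (Nat.card R : ℂ) - 1 := by rw [L.card_R_cast]; ring
  have : (Nat.card R : ℂ) ≠ 0 := Nat.cast_ne_zero.2 Nat.card_pos.ne'
  rw [hq]
  push_cast
  field_simp
  ring

section U

variable {U : Subgroup G}

theorem pow_six_R [Finite G] {b : G} (hb : b ∈ R) (h6 : b ^ 6 = 1) : b = 1 := by
  refine orderOf_eq_one_iff.1 (Nat.eq_one_of_dvd_coprimes (a := 6) (b := Nat.card R) ?_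
    (orderOf_dvd_of_pow_eq_one h6) (orderOf_dvd_of_pow_eq_one (L.R_pow hb)))
  rw [show (6 : ℕ) = 2 * 3 from rfl]
  exact Nat.Coprime.mul_left (Nat.coprime_two_left.2 L.odd_R)
    ((Nat.prime_three.coprime_iff_not_dvd).2 L.coprime_R)

end U

end Loc

end CfsgLib.ReeSThree
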