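import Cfsg.Agent.ReeSThree.Centralizer
import Cfsg.Agent.ReeSThree.CharTools

/-!
# Groups of Ree type: the functions to be induced and the sums over `A` and `N(A)`
-/

set_option autoImplicit false
set_option maxHeartbeats 400000

namespace CfsgLib.ReeSThree

open Cfsg CfsgLib.Chars CfsgLib.Chars.Exceptional
open scoped ComplexConjugate

universe u

variable {G : Type u} [Group G]

/-- The subgroup `⟨t⟩ W` for an involution `t` centralising `W`. -/
def tJoin (t : G) (W : Subgroup G) (ht : t * t = 1) (hc : ∀ w ∈ W, Commute w t) : Subgroup G where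
  carrier := {x | x ∈ W ∨ t * x ∈ W}
  one_mem' := Or.inl W.one_mem
  mul_mem' := by
    rintro x y (hx | hx) (hy | hy)
    · exact Or.inl (W.mul_mem hx hy)
    · refine Or.inr ?_
      rw [← mul_assoc, ← (hc x hx).eq, mul_assoc]
      exact W.mul_mem hx hy
    · exact Or.inr (by rw [← mul_assoc]; exact W.mul_mem hx hy)
    · refine Or.inl ?_
      have h1 : Commute (t * x) t := hc _ hx
      have e : x * y = t * x * (t * y) := by
        rw [show t * x * (t * y) = (t * x) * t * y by group, h1.eq, ← mul_assoc t t, ht, one_mul]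
      rw [e]
      exact W.mul_mem hx hy
  inv_mem' := by
    rintro x (hx | hx)
    · exact Or.inl (W.inv_mem hx)
    · refine Or.inr ?_
      have h1 : Commute (t * x) t := hc _ hx
      have h2 : Commute t x := by
        have := ((Commute.refl t).inv_left).mul_left h1
        simpa using this.symm
      have e : t * x⁻¹ = (t * x)⁻¹ := by
        rw [mul_inv_rev, inv_eq_of_mul_eq_one_right ht, h2.inv_right.eq]
      rw [e]
      exact W.inv_mem hx

theorem mem_tJoin {t : G} {W : Subgroup G} {ht : t * t = 1} {hc : ∀ w ∈ W, Commute w t} {x : G} :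
    x ∈ tJoin t W ht hc ↔ x ∈ W ∨ t * x ∈ W := Iff.rfl

open _root_.Classical in
/-- The function with value `2 β(w)` at `t w` and `0` elsewhere. -/
noncomputable def twistFun (t : G) (W : Subgroup G) (β : W →* ℂˣ) (x : G) : ℂ :=
  if h : t * x ∈ W then 2 * (β ⟨t * x, h⟩ : ℂ) else 0

theorem twistFun_mul {t : G} (ht : t * t = 1) {W : Subgroup G} (β : W →* ℂˣ) (w : W) :
    twistFun t W β (t * w) = 2 * (β w : ℂ) := by
  have h : t * (t * (w : G)) = w := by rw [← mul_assoc, ht, one_mul]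
  rw [twistFun, dif_pos (h.symm ▸ w.2)]
  congr 3
  exact Subtype.ext h

theorem twistFun_eq_zero {t : G} {W : Subgroup G} (β : W →* ℂˣ) {x : G} (h : t * x ∉ W) :
    twistFun t W β x = 0 := by rw [twistFun, dif_neg h]

theorem gen_twist {t : G} {W : Subgroup G} (ht : t * t = 1) (hc : ∀ w ∈ W, Commute w t)
    (htW : t ∉ W) (β : W →* ℂˣ) :
    IsGeneralizedCharacter (tJoin t W ht hc) (fun x => twistFun t W β x) := by
  classical
  let F : ℂˣ → tJoin t W ht hc → ℂˣ := fun σ x =>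
    if hx : (x : G) ∈ W then β ⟨x, hx⟩ else σ * β ⟨t * x, x.2.resolve_left hx⟩
  have hnot : ∀ {y : G}, t * y ∈ W → y ∉ W := fun {y} h hy =>
    htW (by simpa using W.mul_mem h (W.inv_mem hy))
  have hF1 : ∀ (σ : ℂˣ) (x : tJoin t W ht hc) (hx : (x : G) ∈ W), F σ x = β ⟨x, hx⟩ :=
    fun σ x hx => dif_pos hx
  have hF2 : ∀ (σ : ℂˣ) (x : tJoin t W ht hc) (hx : t * (x : G) ∈ W),
      F σ x = σ * β ⟨t * x, hx⟩ := fun σ x hx => dif_neg (hnot hx)
  have hmul : ∀ σ : ℂˣ, σ * σ = 1 → ∀ x y, F σ (x * y) = F σ x * F σ y := by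
    rintro σ hσ ⟨x, hx | hx⟩ ⟨y, hy | hy⟩
    · rw [hF1 σ ⟨x, Or.inl hx⟩ hx, hF1 σ ⟨y, Or.inl hy⟩ hy, hF1 σ (⟨x, Or.inl hx⟩ * ⟨y, Or.inl hy⟩) (W.mul_mem hx hy), ← map_mul]
      rfl
    · have e : t * (x * y) = x * (t * y) := by
        rw [← mul_assoc, ← (hc x hx).eq, mul_assoc]
      have hm : t * (x * y) ∈ W := by rw [e]; exact W.mul_mem hx hy
      rw [hF1 σ ⟨x, Or.inl hx⟩ hx, hF2 σ ⟨y, Or.inr hy⟩ hy, hF2 σ (⟨x, Or.inl hx⟩ * ⟨y, Or.inr hy⟩) hm,
        mul_left_comm, ← map_mul]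
      congr 2
      exact Subtype.ext e
    · have e : t * (x * y) = t * x * y := (mul_assoc t x y).symm
      have hm : t * (x * y) ∈ W := by rw [e]; exact W.mul_mem hx hy
      rw [hF2 σ ⟨x, Or.inr hx⟩ hx, hF1 σ ⟨y, Or.inl hy⟩ hy, hF2 σ (⟨x, Or.inr hx⟩ * ⟨y, Or.inl hy⟩) hm,
        mul_assoc, ← map_mul]
      congr 2
      exact Subtype.ext e
    · have h1 : Commute (t * x) t := hc _ hx
      have e : x * y = t * x * (t * y) := by
        rw [show t * x * (t * y) = (t * x) * t * y by group, h1.eq, ← mul_assoc t t, ht, one_mul]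
      have hm : x * y ∈ W := by rw [e]; exact W.mul_mem hx hy
      rw [hF2 σ ⟨x, Or.inr hx⟩ hx, hF2 σ ⟨y, Or.inr hy⟩ hy,
        hF1 σ (⟨x, Or.inr hx⟩ * ⟨y, Or.inr hy⟩) hm,
        mul_mul_mul_comm, hσ, one_mul, ← map_mul]
      congr 1
      exact Subtype.ext e
  let l₁ : tJoin t W ht hc →* ℂˣ := MonoidHom.mk' (F 1) (hmul 1 (one_mul 1))
  let l₂ : tJoin t W ht hc →* ℂˣ := MonoidHom.mk' (F (-1)) (hmul (-1) (by simp))
  have he : (fun x : tJoin t W ht hc => twistFun t W β x) =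
      (fun x => (l₁ x : ℂ)) - fun x => (l₂ x : ℂ) := by
    funext x
    show twistFun t W β x = ((F 1 x : ℂˣ) : ℂ) - ((F (-1) x : ℂˣ) : ℂ)
    rcases x.2 with hx | hx
    · rw [hF1 1 x hx, hF1 (-1) x hx, sub_self]
      exact twistFun_eq_zero β fun h => hnot h hx
    · rw [hF2 1 x hx, hF2 (-1) x hx, twistFun, dif_pos hx]
      push_cast
      ring
  rw [he]
  exact gen_sub (gen_hom l₁) (gen_hom l₂)

theorem sum_tJoin [Fintype G] {t : G} {W : Subgroup G} (ht : t * t = 1)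
    (hc : ∀ w ∈ W, Commute w t) (htW : t ∉ W) [Fintype W] [Fintype (tJoin t W ht hc)] (Φ : G → ℂ) :
    ∑ x : tJoin t W ht hc, Φ x = (∑ w : W, Φ w) + ∑ w : W, Φ (t * w) := by
  classical
  have hsum : ∑ p : Bool × W, Φ (if p.1 then t * p.2 else p.2) = ∑ x : tJoin t W ht hc, Φ x := by
    refine Fintype.sum_bijective (fun p : Bool × W =>
      (⟨if p.1 then t * p.2 else p.2, ?_⟩ : tJoin t W ht hc)) ⟨?_, ?_⟩ _ _ fun p => rfl
    · cases p.1
      · exact Or.inl p.2.2
      · exact Or.inr (by simp [← mul_assoc, ht])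
    · rintro ⟨b, w⟩ ⟨b', w'⟩ e
      have e' : (if b then t * (w : G) else w) = (if b' then t * (w' : G) else w') :=
        congrArg Subtype.val e
      cases b <;> cases b' <;> simp at e'
      · exact Prod.ext rfl e'
      · exfalso
        refine htW ?_
        rw [show t = (w : G) * (w' : G)⁻¹ by rw [e', mul_inv_cancel_right]]
        exact W.mul_mem w.2 (W.inv_mem w'.2)
      · exfalso
        refine htW ?_
        rw [show t = (w' : G) * (w : G)⁻¹ by rw [← e', mul_inv_cancel_right]]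
        exact W.mul_mem w'.2 (W.inv_mem w.2)
      · exact Prod.ext rfl e'
    · rintro ⟨x, hx | hx⟩
      · exact ⟨(false, ⟨x, hx⟩), rfl⟩
      · exact ⟨(true, ⟨t * x, hx⟩), Subtype.ext (by simp [← mul_assoc, ht])⟩
  rw [← hsum, Fintype.sum_prod_type, Fintype.sum_bool]
  simp [add_comm]

/-- The function on `A` to be induced. -/
noncomputable def psi (t v : G) {R : Subgroup G} (l : R →* ℂˣ) (x : G) : ℂ :=
  (twistFun t R 1 x + twistFun (t * v) R 1 x) - (twistFun t R l x + twistFun (t * v) R l x)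

theorem extendByZero_fun {H : Subgroup G} {Φ : G → ℂ} (h : ∀ x, x ∉ H → Φ x = 0) (x : G) :
    extendByZero H (fun y : H => Φ y) x = Φ x := by
  by_cases hx : x ∈ H
  · rw [Induced.extendByZero_mem _ hx]
  · rw [Induced.extendByZero_notMem _ hx, h x hx]

namespace Setup

variable {t : G} {K : Subgroup G} {q : ℕ} (h : Setup G t K q)
include h

/-- No element conjugates a non-trivial element of order `3` to its inverse. -/
theorem not_real [Finite G] {g x : G} (hx : x ^ 3 = 1) (hg : g * x * g⁻¹ = x⁻¹) : x = 1 := by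
  obtain ⟨k, r, F⟩ := h.exists_frame
  obtain ⟨n, hn, i, hi⟩ := Cfsg.Agent.S2758.exists_two_part g
  obtain ⟨j, rfl⟩ : ∃ j, n = 2 * j + 1 := ⟨n / 2, by omega⟩
  refine h.noInv _ x (h.sq_of_two_pow F (a := i) (by rw [← hi, pow_orderOf_eq_one])) hx ?_
  clear hn hi
  induction j with
  | zero => simpa using hg
  | succ j ih =>
    have h2 : g * g * x * (g * g)⁻¹ = x := by
      calc g * g * x * (g * g)⁻¹ = g * (g * x * g⁻¹) * g⁻¹ := by group
        _ = g * x⁻¹ * g⁻¹ := by rw [hg]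
        _ = (g * x * g⁻¹)⁻¹ := by group
        _ = x := by rw [hg, inv_inv]
    calc g ^ (2 * (j + 1) + 1) * x * (g ^ (2 * (j + 1) + 1))⁻¹
        = g ^ (2 * j + 1) * (g * g * x * (g * g)⁻¹) * (g ^ (2 * j + 1))⁻¹ := by
          rw [show 2 * (j + 1) + 1 = (2 * j + 1) + 2 by ring, pow_add _ _ 2, pow_two]; group
      _ = x⁻¹ := by rw [h2, ih]

end Setup

namespace Loc

variable {t : G} {K : Subgroup G} {q : ℕ} {R A : Subgroup G} {v z f : G}
  (L : Loc t K q R A v z f)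
include L

/-- The conjugation by `f` on `R`. -/
def sigma : R →* R :=
  MonoidHom.mk' (fun b => ⟨f * b * f⁻¹, L.fR b b.2⟩) fun a b => Subtype.ext (conj_mul' f a b)

theorem sigma_cube (b : R) : L.sigma (L.sigma (L.sigma b)) = b := by
  refine Subtype.ext ?_
  show f * (f * (f * b * f⁻¹) * f⁻¹) * f⁻¹ = b
  calc f * (f * (f * b * f⁻¹) * f⁻¹) * f⁻¹ = (f * (f * f)) * b * (f * (f * f))⁻¹ := by group
    _ = b := by rw [← pow_three, L.f3]; simp

theorem sigma_bijective : Function.Bijective L.sigma :=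
  Function.bijective_iff_has_inverse.2 ⟨fun b => L.sigma (L.sigma b), fun b => L.sigma_cube b,
    fun b => L.sigma_cube b⟩

theorem t_not_mem_R [Finite G] : t ∉ R := fun h => L.setup.t_ne (L.eq_one_of_sq h L.setup.t_mul)

theorem exists_hom [Finite G] : ∃ l : R →* ℂˣ, (∃ b, l b ≠ 1) ∧ ∀ b, L.sigma b = b → l b = 1 := by
  obtain ⟨b₀, hb₀, hne⟩ := L.exists_moved
  letI : CommGroup R := { mul_comm := fun a b => Subtype.ext (L.R_comm a a.2 b b.2).eq }
  let R₀ : Subgroup R := L.sigma.eqLocus (MonoidHom.id R)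
  have hb : (QuotientGroup.mk ⟨b₀, hb₀⟩ : R ⧸ R₀) ≠ 1 := fun e =>
    hne (congrArg Subtype.val ((QuotientGroup.eq_one_iff _).1 e))
  have : HasEnoughRootsOfUnity ℂ (Monoid.exponent (R ⧸ R₀)) := by
    have : NeZero (Monoid.exponent (R ⧸ R₀)) := ⟨Monoid.exponent_ne_zero_of_finite⟩
    infer_instance
  obtain ⟨φ, hφ⟩ := CommGroup.exists_apply_ne_one_of_hasEnoughRootsOfUnity (R ⧸ R₀) ℂ hb
  refine ⟨φ.comp (QuotientGroup.mk' R₀), ⟨⟨b₀, hb₀⟩, hφ⟩, fun b hb' => ?_⟩
  show φ (QuotientGroup.mk b) = 1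
  rw [(QuotientGroup.eq_one_iff b).2 hb', map_one]

theorem hom_pow [Finite G] (l : R →* ℂˣ) (b : R) : l b ^ Nat.card R = 1 := by
  rw [← map_pow, pow_card_eq_one', map_one]

theorem eq_one_of_hom_sq [Finite G] (l : R →* ℂˣ) {b : R} (h : l b * l b = 1) : l b = 1 := by
  obtain ⟨j, hj⟩ := L.odd_R
  have := L.hom_pow l b
  rwa [hj, pow_succ, pow_mul, pow_two, h, one_pow, one_mul] at this

/-- The twists of `l` by the six elements of `N(A)/A` are distinct. -/
theorem hom_moved [Finite G] {l : R →* ℂˣ} (hl : ∃ b, l b ≠ 1)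
    (hfix : ∀ b, L.sigma b = b → l b = 1) :
    (∃ b, l b⁻¹ ≠ l b) ∧ (∃ b, l (L.sigma b) ≠ l b) ∧ (∃ b, l (L.sigma b⁻¹) ≠ l b) ∧
      (∃ b, l (L.sigma (L.sigma b)) ≠ l b) ∧ ∃ b, l (L.sigma (L.sigma b⁻¹)) ≠ l b := by
  obtain ⟨b₀, hb₀⟩ := hl
  have hnorm : ∀ b, l b * l (L.sigma b) * l (L.sigma (L.sigma b)) = 1 := by
    intro b
    rw [← map_mul, ← map_mul]
    refine hfix _ ?_
    rw [map_mul, map_mul, L.sigma_cube]
    refine Subtype.ext ?_
    have := L.R_comm _ (L.sigma b * L.sigma (L.sigma b)).2 b b.2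
    simpa [mul_assoc] using this.eq
  have hcase : ¬ ∀ b, l (L.sigma b) = l b := by
    intro h
    apply hb₀
    have h3 : l b₀ ^ 3 = 1 := by
      have := hnorm b₀
      rwa [h, h, h, mul_assoc, ← pow_three] at this
    refine orderOf_eq_one_iff.1 (Nat.eq_one_of_dvd_coprimes
      ((Nat.prime_three.coprime_iff_not_dvd).2 L.coprime_R) (orderOf_dvd_of_pow_eq_one h3)
      (orderOf_dvd_of_pow_eq_one (L.hom_pow l b₀)))
  have hcase' : ¬ ∀ b, l (L.sigma b) = (l b)⁻¹ := by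
    intro h
    apply hb₀
    refine L.eq_one_of_hom_sq l ?_
    have := congrArg l (L.sigma_cube b₀)
    rw [h, h, h, inv_inv] at this
    nth_rw 1 [← this]
    exact inv_mul_cancel _
  refine ⟨⟨b₀, fun h => hb₀ (L.eq_one_of_hom_sq l ?_)⟩, ?_, ?_, ?_, ?_⟩
  · rw [map_inv] at h
    nth_rw 1 [← h]
    exact inv_mul_cancel _
  · exact not_forall.1 hcase
  · refine not_forall.1 fun h => hcase' fun b => ?_
    have := h b
    rw [map_inv, map_inv] at this
    rw [← inv_inv (l (L.sigma b)), this]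
  · refine not_forall.1 fun h => hcase fun b => ?_
    have := h (L.sigma b)
    rw [L.sigma_cube] at this
    exact this.symm
  · refine not_forall.1 fun h => hcase' fun b => ?_
    have := h (L.sigma b)
    rw [map_inv, map_inv, L.sigma_cube, map_inv] at this
    exact this.symm

theorem psi_eq_zero_of {l : R →* ℂˣ} {x : G} (h1 : t * x ∉ R) (h2 : t * v * x ∉ R) :
    psi t v l x = 0 := by
  simp [psi, twistFun_eq_zero _ h1, twistFun_eq_zero _ h2]

theorem psi_eq_zero [Finite G] (l : R →* ℂˣ) {x : G} (hx : x ∉ A) : psi t v l x = 0 := by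
  refine L.psi_eq_zero_of (fun h => hx ?_) fun h => hx ?_
  · rw [show x = t * (t * x) by rw [← mul_assoc, L.setup.t_mul, one_mul]]
    exact A.mul_mem L.t_mem_A (L.R_le_A h)
  · rw [show x = (t * v) * (t * v * x) by rw [← mul_assoc (t * v), L.tv_sq, one_mul]]
    exact A.mul_mem (A.mul_mem L.t_mem_A L.v_mem_A) (L.R_le_A h)

theorem not_mem_R_of_four [Finite G] {e : G} (he : e ∈ L.four) (h1 : e ≠ 1) {b : G} (hb : b ∈ R) :
    e * b ∉ R := fun h => h1 (L.four_inf_R he (by simpa using R.mul_mem h (R.inv_mem hb)))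

theorem psi_R [Finite G] (l : R →* ℂˣ) (b : R) : psi t v l b = 0 :=
  L.psi_eq_zero_of (L.not_mem_R_of_four (Or.inr (Or.inl rfl)) L.setup.t_ne b.2)
    (L.not_mem_R_of_four (Or.inr (Or.inr (Or.inr rfl))) L.tv_ne.1 b.2)

theorem psi_v [Finite G] (l : R →* ℂˣ) (b : R) : psi t v l (v * b) = 0 := by
  refine L.psi_eq_zero_of ?_ ?_
  · rw [← mul_assoc]
    exact L.not_mem_R_of_four (Or.inr (Or.inr (Or.inr rfl))) L.tv_ne.1 b.2
  · rw [← mul_assoc, mul_assoc t, L.v2, mul_one]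
    exact L.not_mem_R_of_four (Or.inr (Or.inl rfl)) L.setup.t_ne b.2

theorem psi_t [Finite G] (l : R →* ℂˣ) (b : R) : psi t v l (t * b) = 2 * (1 - (l b : ℂ)) := by
  have h : t * v * (t * (b : G)) ∉ R := by
    rw [← mul_assoc, show t * v * t = v by rw [mul_assoc, ← L.tv.eq, ← mul_assoc, L.setup.t_mul, one_mul]]
    exact L.not_mem_R_of_four (Or.inr (Or.inr (Or.inl rfl))) L.v1 b.2
  simp [psi, twistFun_mul L.setup.t_mul, twistFun_eq_zero _ h]
  ring

theorem psi_tv [Finite G] (l : R →* ℂˣ) (b : R) : psi t v l (t * v * b) = 2 * (1 - (l b : ℂ)) := by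
  have h : t * (t * v * (b : G)) ∉ R := by
    rw [← mul_assoc, ← mul_assoc, L.setup.t_mul, one_mul]
    exact L.not_mem_R_of_four (Or.inr (Or.inr (Or.inl rfl))) L.v1 b.2
  simp [psi, twistFun_mul L.tv_sq, twistFun_eq_zero _ h]
  ring

theorem gen_psi [Finite G] (l : R →* ℂˣ) :
    IsGeneralizedCharacter A (fun x => psi t v l x) := by
  classical
  -- the linear characters of `A`
  letI : CommGroup A := { mul_comm := fun a b => Subtype.ext (L.A_comm a.2 b.2).eq }
  obtain ⟨j, hj⟩ := L.odd_R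
  have hpow : ∀ e b : G, e * e = 1 → Commute e b → b ∈ R →
      (e * b) ^ Nat.card R = e ∧ (e * b) ^ (Nat.card R + 1) = b := by
    intro e b he hc hb
    have h1 : e ^ Nat.card R = e := by rw [hj, pow_succ, pow_mul, pow_two, he, one_pow, one_mul]
    refine ⟨by rw [hc.mul_pow, h1, L.R_pow hb, mul_one], ?_⟩
    rw [hc.mul_pow, pow_succ, pow_succ, h1, he, L.R_pow hb, one_mul, one_mul]
  have hmemR : ∀ a : A, (a : G) ^ (Nat.card R + 1) ∈ R := by
    intro a
    obtain ⟨b, hb, e⟩ := (L.mem_A a).1 a.2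
    obtain ⟨g1, g2⟩ := L.R_cent b hb
    rcases e with e | e | e | e <;> rw [e]
    · exact R.pow_mem hb _
    · rw [(hpow t b L.setup.t_mul g1.symm hb).2]; exact hb
    · rw [(hpow v b L.v2 g2.symm hb).2]; exact hb
    · rw [(hpow _ b L.tv_sq (g1.symm.mul_left g2.symm) hb).2]; exact hb
  let π : A →* R := MonoidHom.mk' (fun a => ⟨_, hmemR a⟩)
    (fun a b => Subtype.ext ((L.A_comm a.2 b.2).mul_pow _))
  let lam : A →* ℂˣ := l.comp π
  let B : Subgroup A := ((Subgroup.zpowers v).subgroupOf A).comap (powMonoidHom (Nat.card R))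
  have hpowA : ∀ (a : A), ((powMonoidHom (Nat.card R) a : A) : G) = (a : G) ^ Nat.card R :=
    fun a => rfl
  have hz : ∀ e, e ∈ Subgroup.zpowers v → e = 1 ∨ e = v := by
    intro e he
    obtain ⟨i, rfl⟩ := Subgroup.mem_zpowers_iff.1 he
    rcases Int.even_or_odd' i with ⟨k, rfl | rfl⟩
    · exact Or.inl (by rw [zpow_mul, zpow_two, L.v2, one_zpow])
    · exact Or.inr (by rw [zpow_add, zpow_mul, zpow_two, L.v2, one_zpow, one_mul, zpow_one])
  have hB : ∀ a : A, a ∈ B ↔ (a : G) ^ Nat.card R = 1 ∨ (a : G) ^ Nat.card R = v := by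
    intro a
    show (a : G) ^ Nat.card R ∈ Subgroup.zpowers v ↔ _
    refine ⟨hz _, ?_⟩
    rintro (e | e) <;> rw [e]
    · exact one_mem _
    · exact Subgroup.mem_zpowers v
  let F : A → ℂˣ := fun a => if a ∈ B then 1 else -1
  have hBidx : B.index = 2 := by
    rw [Subgroup.index_eq_two_iff]
    refine ⟨⟨t, L.t_mem_A⟩, fun a => ?_⟩
    rw [hB, hB]
    have he : (a : G) ^ Nat.card R = 1 ∨ (a : G) ^ Nat.card R = t ∨ (a : G) ^ Nat.card R = v ∨
        (a : G) ^ Nat.card R = t * v := by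
      obtain ⟨b, hb, e⟩ := (L.mem_A a).1 a.2
      obtain ⟨g1, g2⟩ := L.R_cent b hb
      rcases e with e | e | e | e <;> rw [e]
      · exact Or.inl (L.R_pow hb)
      · exact Or.inr (Or.inl (hpow t b L.setup.t_mul g1.symm hb).1)
      · exact Or.inr (Or.inr (Or.inl (hpow v b L.v2 g2.symm hb).1))
      · exact Or.inr (Or.inr (Or.inr (hpow _ b L.tv_sq (g1.symm.mul_left g2.symm) hb).1))
    have ht' : t ^ Nat.card R = t := by
      rw [hj, pow_succ, pow_mul, pow_two, L.setup.t_mul, one_pow, one_mul]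
    rw [Subgroup.coe_mul, (L.A_cent a.2).1.mul_pow, ht']
    obtain ⟨n1, n2, n3⟩ := L.tv_ne
    rcases he with e | e | e | e <;> rw [e]
    · exact Or.inr ⟨Or.inl rfl, by simp [L.setup.t_ne, L.vt.symm]⟩
    · exact Or.inl ⟨Or.inl L.setup.t_mul, by simp [L.setup.t_ne, L.vt.symm]⟩
    · refine Or.inr ⟨Or.inr rfl, ?_⟩
      rw [← L.tv.eq]; simp [n1, n3]
    · refine Or.inl ⟨Or.inr ?_, by simp [n1, n3]⟩
      rw [L.tv.eq, mul_assoc, L.setup.t_mul, mul_one]
  let chi : A →* ℂˣ := MonoidHom.mk' F fun a b => by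
    have := Subgroup.mul_mem_iff_of_index_two hBidx (a := a) (b := b)
    by_cases ha : a ∈ B <;> by_cases hb : b ∈ B <;> simp [F, this, ha, hb]
  have key : ∀ a : A, psi t v l a = (1 - (chi a : ℂ)) * (1 - (lam a : ℂ)) := by
    intro a
    obtain ⟨b, hb, e⟩ := (L.mem_A a).1 a.2
    obtain ⟨g1, g2⟩ := L.R_cent b hb
    have hlam : ∀ w, w * w = 1 → Commute w b → (a : G) = w * b → lam a = l ⟨b, hb⟩ := by
      intro w hw hc e'
      show l (π a) = _
      congr 1
      refine Subtype.ext ?_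
      show (a : G) ^ _ = b
      rw [e', (hpow w b hw hc hb).2]
    rcases e with e | e | e | e
    · have hc : chi a = 1 := if_pos ((hB a).2 (Or.inl (by rw [e]; exact L.R_pow hb)))
      rw [hc, e, L.psi_R l ⟨b, hb⟩]; simp
    · have hc : chi a = -1 := if_neg fun h => by
        rw [hB, e, (hpow t b L.setup.t_mul g1.symm hb).1] at h
        exact h.elim L.setup.t_ne L.vt.symm
      rw [hc, hlam t L.setup.t_mul g1.symm e, e, L.psi_t l ⟨b, hb⟩]; push_cast; ring
    · have hc : chi a = 1 := if_pos ((hB a).2 (Or.inr (by rw [e]; exact (hpow v b L.v2 g2.symm hb).1)))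
      rw [hc, e, L.psi_v l ⟨b, hb⟩]; simp
    · have hc : chi a = -1 := if_neg fun h => by
        rw [hB, e, (hpow _ b L.tv_sq (g1.symm.mul_left g2.symm) hb).1] at h
        exact h.elim L.tv_ne.1 L.tv_ne.2.2
      rw [hc, hlam _ L.tv_sq (g1.symm.mul_left g2.symm) e, e, L.psi_tv l ⟨b, hb⟩]; push_cast; ring
  have he : (fun x : A => psi t v l x) = ((fun _ => (1 : ℂ)) - fun x => (chi x : ℂ)) -
      ((fun x => (lam x : ℂ)) - fun x => ((chi * lam) x : ℂ)) := by
    funext a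
    simp [key a]
    ring
  rw [he]
  exact gen_sub (gen_sub gen_one (gen_hom chi)) (gen_sub (gen_hom lam) (gen_hom _))

/-- A sum over `A`. -/
theorem sum_A [Fintype G] [Fintype A] [Fintype R] (Φ : G → ℂ) :
    ∑ a : A, Φ a = (∑ b : R, Φ b) + (∑ b : R, Φ (t * b)) + (∑ b : R, Φ (v * b)) +
      ∑ b : R, Φ (t * v * b) := by
  classical
  have hmem : ∀ p : (Bool × Bool) × R,
      (if p.1.1 then t else 1) * (if p.1.2 then v else 1) * (p.2 : G) ∈ A := by
    rintro ⟨⟨i, j⟩, b⟩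
    refine A.mul_mem (A.mul_mem ?_ ?_) (L.R_le_A b.2)
    · cases i <;> simp [L.t_mem_A]
    · cases j <;> simp [L.v_mem_A]
  have hbij : Function.Bijective (fun p : (Bool × Bool) × R => (⟨_, hmem p⟩ : A)) := by
    rw [Fintype.bijective_iff_surjective_and_card]
    refine ⟨?_, ?_⟩
    · rintro ⟨x, hx⟩
      obtain ⟨b, hb, e⟩ := (L.mem_A x).1 hx
      rcases e with e | e | e | e
      · exact ⟨((false, false), ⟨b, hb⟩), Subtype.ext (by simp [e])⟩
      · exact ⟨((true, false), ⟨b, hb⟩), Subtype.ext (by simp [e])⟩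
      · exact ⟨((false, true), ⟨b, hb⟩), Subtype.ext (by simp [e])⟩
      · exact ⟨((true, true), ⟨b, hb⟩), Subtype.ext (by simp [e])⟩
    · rw [Fintype.card_prod, Fintype.card_prod, Fintype.card_bool, ← Nat.card_eq_fintype_card,
        ← Nat.card_eq_fintype_card, L.card_A, ← L.card_R]
  rw [← Fintype.sum_bijective _ hbij (fun p => Φ (⟨_, hmem p⟩ : A)) _ fun p => rfl]
  simp only [Fintype.sum_prod_type, Fintype.sum_bool, if_true, if_false, one_mul, mul_one,
    Bool.false_eq_true]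
  ring

/-- An element carrying some `d b` (`b ≠ 1`) into `V R` lies in `N(A)`. -/
theorem mem_N_of_conj [Finite G] {x d b d' b' : G} (hd : d = t ∨ d = v ∨ d = t * v) (hb : b ∈ R)
    (hb1 : b ≠ 1) (hd' : d' = t ∨ d' = v ∨ d' = t * v) (hb' : b' ∈ R)
    (he : x * (d * b) * x⁻¹ = d' * b') : ∃ i < 3, ∃ a ∈ A, x = f ^ i * a ∨ x = f ^ i * (z * a) := by
  have hfac : ∀ d b, (d = t ∨ d = v ∨ d = t * v) → b ∈ R →
      d * d = 1 ∧ Commute d b ∧ d * b ∈ A := by
    intro d b hd hb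
    obtain ⟨g1, g2⟩ := L.R_cent b hb
    rcases hd with rfl | rfl | rfl
    · exact ⟨L.setup.t_mul, g1.symm, A.mul_mem L.t_mem_A (L.R_le_A hb)⟩
    · exact ⟨L.v2, g2.symm, A.mul_mem L.v_mem_A (L.R_le_A hb)⟩
    · exact ⟨L.tv_sq, g1.symm.mul_left g2.symm,
        A.mul_mem (A.mul_mem L.t_mem_A L.v_mem_A) (L.R_le_A hb)⟩
  obtain ⟨s1, c1, m1⟩ := hfac d b hd hb
  obtain ⟨s2, c2, -⟩ := hfac d' b' hd' hb'
  have hb'1 : b' ≠ 1 := by
    intro e
    apply hb1
    refine L.eq_one_of_sq hb ?_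
    have h2 : x * (d * b) * x⁻¹ * (x * (d * b) * x⁻¹) = 1 := by rw [he, e, mul_one, s2]
    rw [← conj_mul', conj_eq_one_iff, ← pow_two, c1.mul_pow, pow_two, pow_two, s1, one_mul] at h2
    exact h2
  have hA : ∀ y ∈ A, x * y * x⁻¹ ∈ A := fun y hy => by
    refine L.cent_mul hd' hb' hb'1 ?_
    rw [← he]
    exact commute_conj' (L.A_comm hy m1) x
  have hinv : ∀ w ∈ A, w * w = 1 → w ≠ 1 →
      x * w * x⁻¹ = t ∨ x * w * x⁻¹ = v ∨ x * w * x⁻¹ = t * v := fun w hw hw2 hw1 =>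
    (L.eq_of_sq (hA w hw) (by rw [← conj_mul', hw2, mul_one, mul_inv_cancel])).resolve_left
      fun e => hw1 (conj_eq_one_iff.1 e)
  exact L.mem_N (hinv t L.t_mem_A L.setup.t_mul L.setup.t_ne) (hinv v L.v_mem_A L.v2 L.v1)

/-- A sum over `G` of a function living on `N(A)`, evaluated on `x ↦ Φ (x y x⁻¹)`. -/
theorem sum_N [Fintype G] {y : G} (hy : y ∈ A) (Φ : G → ℂ)
    (h0 : ∀ x, Φ (x * y * x⁻¹) ≠ 0 → ∃ i < 3, ∃ a ∈ A, x = f ^ i * a ∨ x = f ^ i * (z * a)) :
    ∑ x : G, Φ (x * y * x⁻¹) = (Nat.card A : ℂ) *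
      (Φ y + Φ (z * y * z⁻¹) + Φ (f * y * f⁻¹) + Φ (f * (z * y * z⁻¹) * f⁻¹) +
        Φ (f * (f * y * f⁻¹) * f⁻¹) + Φ (f * (f * (z * y * z⁻¹) * f⁻¹) * f⁻¹)) := by
  classical
  let rep : Fin 3 × Bool → G := fun p => f ^ (p.1 : ℕ) * (if p.2 then z else 1)
  have hinj : Function.Injective (fun p : (Fin 3 × Bool) × A => rep p.1 * (p.2 : G)) := by
    rintro ⟨⟨i, b⟩, a⟩ ⟨⟨j, b'⟩, a'⟩ e
    simp only [rep] at e
    have hfix : ∀ (b : Bool) (w : A),
        ((if b then z else 1) * (w : G)) * t * ((if b then z else 1) * (w : G))⁻¹ = t := by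
      intro b w
      refine mul_inv_eq_iff_eq_mul.2 ((Commute.mul_left ?_ (L.A_cent w.2).1).eq)
      cases b
      · simp
      · simpa using L.zt
    have hij : i = j := by
      have h1 : f ^ (i : ℕ) * t * (f ^ (i : ℕ))⁻¹ = f ^ (j : ℕ) * t * (f ^ (j : ℕ))⁻¹ := by
        nth_rw 1 [← hfix b a]
        nth_rw 2 [← hfix b' a']
        calc f ^ (i : ℕ) * ((if b then z else 1) * (a : G) * t * ((if b then z else 1) * (a : G))⁻¹) *
              (f ^ (i : ℕ))⁻¹
            = (f ^ (i : ℕ) * (if b then z else 1) * a) * t *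
              (f ^ (i : ℕ) * (if b then z else 1) * a)⁻¹ := by group
          _ = _ := by rw [e]; group
      have h2 : f ^ 2 * t * (f ^ 2)⁻¹ = t * v := by
        rw [pow_two]
        calc f * f * t * (f * f)⁻¹ = f * (f * t * f⁻¹) * f⁻¹ := by group
          _ = t * v := by rw [L.ft, L.fv]
      fin_cases i <;> fin_cases j <;> simp [L.ft, h2] at h1 ⊢ <;>
        first
        | exact L.vt h1.symm
        | exact L.vt h1
        | exact L.tv_ne.2.1 h1.symm
        | exact L.tv_ne.2.1 h1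
        | exact L.tv_ne.2.2 h1.symm
        | exact L.tv_ne.2.2 h1
        | exact L.v1 h1
        | exact L.v1 h1.symm
        | exact L.setup.t_ne h1
        | exact L.setup.t_ne h1.symm
    subst hij
    have e2 : (if b then z else 1) * (a : G) = (if b' then z else 1) * (a' : G) := by
      rw [mul_assoc, mul_assoc] at e; exact mul_left_cancel e
    cases b <;> cases b' <;> simp at e2
    · exact Prod.ext rfl e2
    · exact absurd (by rw [show z = (a : G) * (a' : G)⁻¹ by rw [e2, mul_inv_cancel_right]]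
                       exact A.mul_mem a.2 (A.inv_mem a'.2)) L.zA
    · exact absurd (by rw [show z = (a' : G) * (a : G)⁻¹ by rw [← e2, mul_inv_cancel_right]]
                       exact A.mul_mem a'.2 (A.inv_mem a.2)) L.zA
    · exact Prod.ext rfl e2
  have hconj : ∀ (p : Fin 3 × Bool) (a : A),
      rep p * (a : G) * y * (rep p * (a : G))⁻¹ = rep p * y * (rep p)⁻¹ := by
    intro p a
    calc rep p * (a : G) * y * (rep p * (a : G))⁻¹ = rep p * ((a : G) * y * (a : G)⁻¹) * (rep p)⁻¹ := by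
          group
      _ = rep p * y * (rep p)⁻¹ := by rw [(L.A_comm a.2 hy).eq, mul_inv_cancel_right]
  have hsum : ∑ x : G, Φ (x * y * x⁻¹) =
      ∑ p : (Fin 3 × Bool) × A, Φ (rep p.1 * y * (rep p.1)⁻¹) := by
    refine (Fintype.sum_of_injective _ hinj _ (fun x => Φ (x * y * x⁻¹)) ?_ fun p => ?_).symm
    · intro x hx
      by_contra hne
      apply hx
      obtain ⟨i, hi, a, ha, e | e⟩ := h0 x hne
      · exact ⟨((⟨i, hi⟩, false), ⟨a, ha⟩), by simp [rep, e]⟩
      · exact ⟨((⟨i, hi⟩, true), ⟨a, ha⟩), by simp [rep, e, mul_assoc]⟩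
    · show _ = Φ _
      rw [hconj]
  rw [hsum, Fintype.sum_prod_type,
    Finset.sum_congr rfl (g := fun p => (Nat.card A : ℂ) * Φ (rep p * y * (rep p)⁻¹)) fun p _ => by
      dsimp only
      rw [Finset.sum_const, nsmul_eq_mul, Finset.card_univ, ← Nat.card_eq_fintype_card],
    ← Finset.mul_sum]
  congr 1
  simp only [Fintype.sum_prod_type, Fintype.sum_bool, Fin.sum_univ_three, rep]
  have e2 : ∀ w, f * f * w * (f * f)⁻¹ = f * (f * w * f⁻¹) * f⁻¹ := fun w => by group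
  have e1 : ∀ w, f * z * w * (f * z)⁻¹ = f * (z * w * z⁻¹) * f⁻¹ := fun w => by group
  have e3 : ∀ w, f * f * z * w * (f * f * z)⁻¹ = f * (f * (z * w * z⁻¹) * f⁻¹) * f⁻¹ :=
    fun w => by group
  simp only [Bool.false_eq_true, Fin.val_zero, Fin.val_one, Fin.val_two, pow_zero, pow_one, pow_two,
    one_mul, mul_one, inv_one, if_true, if_false, e1, e2, e3]
  ring

end Loc

end CfsgLib.ReeSThree
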