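import Cfsg.Agent.ReeSThree.CharInner

/-!
# Groups of Ree type: the function induced from `⟨t⟩ U` and the class sums
-/

set_option autoImplicit false
set_option maxHeartbeats 400000

namespace CfsgLib.ReeSThree

open Cfsg CfsgLib.Chars CfsgLib.Chars.Exceptional
open scoped ComplexConjugate

universe u

variable {G : Type u} [Group G]

theorem pairCount_eq_card {s h : G} (hs : s * s = 1) :
    pairCount s h = Nat.card {y : G // IsConj s y ∧ IsConj s (y * h)} := by
  refine Nat.card_congr (Equiv.subtypeEquivRight fun y => ?_)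
  have hy : IsConj s y → y⁻¹ = y := fun hc => by
    obtain ⟨c, rfl⟩ := isConj_iff.1 hc
    exact inv_eq_of_mul_eq_one_right (by rw [← conj_mul', hs, mul_one, mul_inv_cancel])
  constructor <;> rintro ⟨h1, h2⟩ <;> refine ⟨h1, ?_⟩
  · rwa [hy h1] at h2
  · rwa [hy h1]

/-- The Sylow `3`-subgroup `U` of `K` and a non-trivial character of it. -/
structure UData (t : G) (K : Subgroup G) (q : ℕ) (U : Subgroup G) (μ : U →* ℂˣ) : Prop where
  le : U ≤ K
  cube : ∀ x ∈ U, x ^ 3 = 1
  card : Nat.card U = q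
  cent : ∀ u ∈ U, u ≠ 1 → ∀ y ∈ K, Commute y u → y ∈ U
  comm : ∀ x ∈ U, ∀ y ∈ U, Commute x y
  nontriv : ∃ a, μ a ≠ 1

/-- The function on `⟨t⟩ U` to be induced. -/
noncomputable def phiU (t : G) {U : Subgroup G} (μ : U →* ℂˣ) (x : G) : ℂ :=
  twistFun t U μ x + twistFun t U μ⁻¹ x

theorem Setup.exists_udata [Finite G] {t : G} {K : Subgroup G} {q : ℕ} (h : Setup G t K q) :
    ∃ (U : Subgroup G) (μ : U →* ℂˣ), UData t K q U μ := by
  obtain ⟨f₀, hf, hf3⟩ := h.exists_three
  set U : Subgroup G := K ⊓ Subgroup.centralizer ({f₀} : Set G) with hU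
  letI : CommGroup U :=
    { mul_comm := fun a b => Subtype.ext (h.U_comm hf hf3 a.2 b.2).eq }
  have : Nontrivial U := by
    rw [← Finite.one_lt_card_iff_nontrivial]
    have hc : Nat.card U = q := h.card_U hf hf3
    have := h.facts.big
    omega
  obtain ⟨a, ha⟩ := exists_ne (1 : U)
  have : HasEnoughRootsOfUnity ℂ (Monoid.exponent U) := by
    have : NeZero (Monoid.exponent U) := ⟨Monoid.exponent_ne_zero_of_finite⟩
    infer_instance
  obtain ⟨μ, hμ⟩ := CommGroup.exists_apply_ne_one_of_hasEnoughRootsOfUnity U ℂ ha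
  refine ⟨U, μ, inf_le_left, fun x hx => h.U_cube hf hf3 hx, h.card_U hf hf3, ?_,
    fun x hx y hy => h.U_comm hf hf3 hx hy, a, hμ⟩
  intro u hu hu1 y hy hyu
  refine ⟨hy, Subgroup.mem_centralizer_singleton_iff.2 ?_⟩
  have hu2 : u * u ≠ 1 := fun e => hu1 (by
    have := h.U_cube hf hf3 hu
    rwa [pow_three, e, mul_one] at this)
  exact (h.caK hu.1 hy hf hu2 hyu.symm (Subgroup.mem_centralizer_singleton_iff.1 hu.2)).eq

namespace Loc

variable {t : G} {K : Subgroup G} {q : ℕ} {R A : Subgroup G} {v z f : G}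
  (L : Loc t K q R A v z f)

namespace U

variable {U : Subgroup G} {μ : U →* ℂˣ} (D : UData t K q U μ)
include L D

theorem commU : ∀ w ∈ U, Commute w t := fun w hw => L.setup.comm w (D.le hw)

theorem t_not_mem : t ∉ U := fun h => L.setup.tK (D.le h)

/-- The subgroup `⟨t⟩ U`. -/
def HU : Subgroup G := tJoin t U L.setup.t_mul (commU L D)

theorem off {x : G} (hx : x ∉ HU L D) : phiU t μ x = 0 := by
  rw [phiU, twistFun_eq_zero _ (fun h => hx (Or.inr h)), twistFun_eq_zero _ (fun h => hx (Or.inr h)),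
    add_zero]

theorem phiU_t (w : U) : phiU t μ (t * w) = 2 * ((μ w : ℂ) + (μ w⁻¹ : ℂ)) := by
  rw [phiU, twistFun_mul L.setup.t_mul, twistFun_mul L.setup.t_mul, MonoidHom.inv_apply, map_inv]
  ring

theorem phiU_mem {w : G} (hw : w ∈ U) : phiU t μ w = 0 := by
  rw [phiU, twistFun_mem (t_not_mem L D) _ hw, twistFun_mem (t_not_mem L D) _ hw, add_zero]

theorem exists_of_phiU {x : G} (h : phiU t μ x ≠ 0) : ∃ w : U, x = t * w := by
  by_cases h1 : twistFun t U μ x = 0
  · by_cases h2 : twistFun t U μ⁻¹ x = 0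
    · exact absurd (by rw [phiU, h1, h2, add_zero]) h
    · exact exists_of_twistFun L.setup.t_mul h2
  · exact exists_of_twistFun L.setup.t_mul h1

theorem card_HU [Finite G] : Nat.card (HU L D) = 2 * q := by
  rw [HU, card_tJoin L.setup.t_mul (commU L D) (t_not_mem L D), D.card]

theorem gen [Finite G] :
    IsGeneralizedCharacter (HU L D) (fun x => phiU t μ x) :=
  gen_add (gen_twist L.setup.t_mul (commU L D) (t_not_mem L D) μ)
    (gen_twist L.setup.t_mul (commU L D) (t_not_mem L D) μ⁻¹)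

theorem tu_cube {w : G} (hw : w ∈ U) : (t * w) ^ 3 = t := by
  rw [((commU L D w hw).symm).mul_pow, D.cube w hw, mul_one, pow_three, L.setup.t_mul, mul_one]

theorem sum_HU [Fintype G] [Fintype U] [Fintype (HU L D)] (X : G → ℂ) :
    ∑ h : HU L D, (fun y : G => phiU t μ y * X y) h =
      ∑ w : U, 2 * ((μ w : ℂ) + (μ w⁻¹ : ℂ)) * X (t * w) := by
  unfold HU at *
  rw [sum_tJoin L.setup.t_mul (commU L D) (t_not_mem L D) (fun y : G => phiU t μ y * X y)]
  simp only [phiU_mem L D (Subtype.prop _), zero_mul, Finset.sum_const_zero, zero_add, phiU_t L D]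

theorem sum_m [Fintype U] : ∑ w : U, ((μ w : ℂ) + (μ w⁻¹ : ℂ)) = 0 := by
  obtain ⟨a, ha⟩ := D.nontriv
  rw [Finset.sum_add_distrib, sum_hom_eq_zero μ ha,
    show ∑ w : U, (μ w⁻¹ : ℂ) = ∑ w : U, (μ w : ℂ) from
      Fintype.sum_equiv (Equiv.inv U) _ _ fun w => rfl,
    sum_hom_eq_zero μ ha, add_zero]

theorem sum_phiU_t [Fintype G] :
    ∑ x : G, phiU t μ (x * t * x⁻¹) =
      4 * (Nat.card (Subgroup.centralizer ({t} : Set G)) : ℂ) := by
  classical
  have key : ∀ x : G, phiU t μ (x * t * x⁻¹) =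
      if x ∈ Subgroup.centralizer ({t} : Set G) then 4 else 0 := by
    intro x
    split_ifs with hx
    · rw [Subgroup.mem_centralizer_singleton_iff.1 hx, mul_inv_cancel_right]
      have h := phiU_t L D 1
      rw [OneMemClass.coe_one, mul_one, inv_one, map_one] at h
      rw [h]
      push_cast
      norm_num
    · by_contra hne
      obtain ⟨w, hw⟩ := exists_of_phiU L D hne
      apply hx
      have h3 := tu_cube L D w.2
      rw [← hw, conj_pow, pow_three, L.setup.t_mul, mul_one] at h3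
      exact Subgroup.mem_centralizer_singleton_iff.2 (mul_inv_eq_iff_eq_mul.1 h3)
  simp only [key]
  rw [Finset.sum_ite, Finset.sum_const_zero, add_zero, Finset.sum_const, nsmul_eq_mul,
    Nat.card_eq_fintype_card, Fintype.card_subtype, mul_comm]

theorem card_cent [Finite G] {u : G} (hu : u ∈ U) (hu1 : u ≠ 1) :
    Nat.card (Subgroup.centralizer ({t * u} : Set G)) = 2 * q := by
  rw [← card_HU L D]
  congr 2
  ext y
  rw [Subgroup.mem_centralizer_singleton_iff]
  constructor
  · intro hy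
    have hyt : Commute y t := by
      have := (show Commute y (t * u) from hy).pow_right 3
      rwa [tu_cube L D hu] at this
    have hyu : Commute y u := by
      have := hyt.mul_right (show Commute y (t * u) from hy)
      rwa [← mul_assoc, L.setup.t_mul, one_mul] at this
    rcases L.setup.decomp y hyt with hK | hK
    · exact Or.inl (D.cent u hu hu1 y hK hyu)
    · exact Or.inr (D.cent u hu hu1 _ hK ((commU L D u hu).symm.mul_left hyu))
  · intro hy
    have key : ∀ w ∈ U, Commute w (t * u) := fun w hw =>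
      (commU L D w hw).mul_right (D.comm w hw u hu)
    rcases hy with hy | hy
    · exact (key y hy).eq
    · have htt : Commute t (t * u) := (Commute.refl t).mul_right (commU L D u hu).symm
      have := htt.mul_left (key _ hy)
      rw [← mul_assoc, L.setup.t_mul, one_mul] at this
      exact this.eq

/-- The key orbit sum. -/
theorem sum_phiU_conj [Fintype G] {u : U} (hu1 : u ≠ 1) :
    ∑ x : G, phiU t μ (x * (t * (u : G)) * x⁻¹) = -4 * (q : ℂ) := by
  classical
  have := Fintype.ofFinite U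
  let m : U → ℂ := fun w => (μ w : ℂ) + (μ w⁻¹ : ℂ)
  have hu' : (u : G) ≠ 1 := fun e => hu1 (Subtype.ext e)
  let O : U → Prop := fun w => IsConj (t * (u : G)) (t * w)
  have hexp : ∀ x : G, phiU t μ (x * (t * (u : G)) * x⁻¹) =
      ∑ w : U, if x * (t * (u : G)) * x⁻¹ = t * w then 2 * m w else 0 := by
    intro x
    by_cases hx : ∃ w : U, x * (t * (u : G)) * x⁻¹ = t * w
    · obtain ⟨w, hw⟩ := hx
      rw [Finset.sum_eq_single w (fun b _ hb => if_neg fun e =>
          hb (Subtype.ext (mul_left_cancel (e.symm.trans hw)))) (fun h => absurd (Finset.mem_univ _) h),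
        if_pos hw, hw, phiU_t L D]
    · rw [Finset.sum_eq_zero (fun w _ => if_neg fun e => hx ⟨w, e⟩)]
      by_contra hne
      exact hx (exists_of_phiU L D hne)
  have hcount : ∀ w : U, (∑ x : G, if x * (t * (u : G)) * x⁻¹ = t * w then 2 * m w else 0) =
      if O w then 4 * (q : ℂ) * m w else 0 := by
    intro w
    rw [Finset.sum_ite, Finset.sum_const_zero, add_zero, Finset.sum_const, nsmul_eq_mul,
      ← Fintype.card_subtype, ← Nat.card_eq_fintype_card]
    split_ifs with hO
    · rw [CentralizerFour.card_conjugators_eq hO, card_cent L D u.2 hu']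
      push_cast
      ring
    · have : IsEmpty {x : G // x * (t * (u : G)) * x⁻¹ = t * w} :=
        ⟨fun x => hO (isConj_iff.2 ⟨x.1, x.2⟩)⟩
      rw [Nat.card_of_isEmpty, Nat.cast_zero, zero_mul]
  simp only [hexp]
  rw [Finset.sum_comm, Finset.sum_congr rfl fun w _ => hcount w]
  have hO1 : ¬ O 1 := by
    intro e
    obtain ⟨c, hc⟩ := isConj_iff.1 e
    rw [OneMemClass.coe_one, mul_one] at hc
    have h2 : c * (t * (u : G) * (t * u)) * c⁻¹ = 1 := by rw [conj_mul', hc, L.setup.t_mul]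
    rw [conj_eq_one_iff, ← pow_two, (commU L D u u.2).symm.mul_pow, pow_two, L.setup.t_mul,
      one_mul] at h2
    have h3 := D.cube u u.2
    rw [pow_succ, h2, one_mul] at h3
    exact hu' h3
  have hdisj : ∀ w : U, w ≠ 1 → O w → ¬ O w⁻¹ := by
    intro w hw h1 h2
    obtain ⟨c, hc⟩ := isConj_iff.1 (h1.symm.trans h2)
    have hct : c * t * c⁻¹ = t := by
      have h3 := congrArg (· ^ 3) hc
      simp only [conj_pow] at h3
      rwa [tu_cube L D w.2, tu_cube L D (w⁻¹).2] at h3
    rw [conj_mul', hct] at hc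
    exact hw (Subtype.ext (L.setup.not_real (D.cube w w.2) (mul_left_cancel hc)))
  have hord : ∀ w : U, w ≠ 1 → orderOf (w : G) = 3 := fun w hw => by
    have : Fact (Nat.Prime 3) := ⟨Nat.prime_three⟩
    exact orderOf_eq_prime (D.cube w w.2) fun e => hw (Subtype.ext e)
  have hcov : ∀ w : U, w ≠ 1 → O w ∨ O w⁻¹ := by
    intro w hw
    obtain ⟨g, hgK, hg | hg⟩ := L.setup.conjK3 (D.le u.2) (D.le w.2) (hord u hu1) (hord w hw)
    · refine Or.inl (isConj_iff.2 ⟨g, ?_⟩)
      rw [conj_mul', (L.setup.comm g hgK).eq, mul_inv_cancel_right, hg]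
    · refine Or.inr (isConj_iff.2 ⟨g, ?_⟩)
      rw [conj_mul', (L.setup.comm g hgK).eq, mul_inv_cancel_right, Subgroup.coe_inv, ← hg]
      group
  have hid : ∀ w : U, m w = (if w = 1 then m w else 0) + (if O w then m w else 0) +
      (if O w⁻¹ then m w⁻¹ else 0) := by
    intro w
    have hm : m w⁻¹ = m w := by simp [m, add_comm]
    by_cases hw : w = 1
    · subst hw
      simp [hO1]
    · rcases hcov w hw with e | e
      · simp [hw, e, hdisj w hw e]
      · have e' : ¬ O w := fun e' => hdisj w hw e' e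
        simp [hw, e, e', hm]
  have hS : 2 * (∑ w : U, if O w then m w else 0) + 2 = 0 := by
    have h0 : ∑ w : U, m w = 0 := sum_m L D
    rw [Finset.sum_congr rfl (fun w _ => hid w), Finset.sum_add_distrib, Finset.sum_add_distrib,
      show (∑ w : U, if O w⁻¹ then m w⁻¹ else 0) = ∑ w : U, if O w then m w else 0 from
        Fintype.sum_equiv (Equiv.inv U) _ _ fun w => rfl,
      Finset.sum_ite_eq', if_pos (Finset.mem_univ _), show m 1 = 2 by norm_num [m]] at h0
    linear_combination h0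
  rw [show (∑ w : U, if O w then 4 * (q : ℂ) * m w else 0) =
    4 * (q : ℂ) * ∑ w : U, if O w then m w else 0 by
      rw [Finset.mul_sum]
      exact Finset.sum_congr rfl fun w _ => by split_ifs <;> simp]
  linear_combination (2 * (q : ℂ)) * hS

/-- `‖φ_U‖² = 4 q`. -/
theorem inner_UU [Fintype G] [Fintype (HU L D)] :
    classInner (indFun (HU L D) (fun x : HU L D => phiU t μ x))
      (indFun (HU L D) (fun x : HU L D => phiU t μ x)) = 4 * (q : ℂ) := by
  classical
  have := Fintype.ofFinite U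
  rw [inner_ind_fun (HU L D) (HU L D) _ _ (fun x hx => off L D hx),
    sum_HU L D (fun y => conj (∑ x : G, phiU t μ (x * y * x⁻¹)))]
  have key : ∀ w : U, 2 * ((μ w : ℂ) + (μ w⁻¹ : ℂ)) *
      conj (∑ x : G, phiU t μ (x * (t * (w : G)) * x⁻¹)) =
      -8 * (q : ℂ) * ((μ w : ℂ) + (μ w⁻¹ : ℂ)) + (if w = 1 then
        16 * (Nat.card (Subgroup.centralizer ({t} : Set G)) : ℂ) + 16 * (q : ℂ) else 0) := by
    intro w
    split_ifs with hw
    · subst hw
      rw [show t * ((1 : U) : G) = t by simp, sum_phiU_t L D, map_mul, map_ofNat,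
        Complex.conj_natCast]
      simp
      ring
    · rw [sum_phiU_conj L D hw, map_mul, map_neg, map_ofNat, Complex.conj_natCast]
      ring
  rw [Finset.sum_congr rfl fun w _ => key w, Finset.sum_add_distrib, ← Finset.mul_sum, sum_m L D,
    Finset.sum_ite_eq', if_pos (Finset.mem_univ _), card_HU L D, L.card_C_cast]
  have : (q : ℂ) ≠ 0 := Nat.cast_ne_zero.2 (by have := L.setup.facts.big; omega)
  push_cast
  field_simp
  ring

/-- `⟨φ_R, φ_U⟩ = 8 (q - 1)`. -/
theorem inner_RU [Fintype G] [Fintype L.HR] :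
    classInner (indFun L.HR (fun x : L.HR => twistFun t R (1 : R →* ℂˣ) x))
      (indFun (HU L D) (fun x : HU L D => phiU t μ x)) = 8 * ((q : ℂ) - 1) := by
  classical
  have := Fintype.ofFinite R
  rw [inner_ind_fun L.HR (HU L D) _ _ (fun x hx => off L D hx),
    L.sum_HR (fun y => conj (∑ x : G, phiU t μ (x * y * x⁻¹)))]
  have key : ∀ b : R, 2 * conj (∑ x : G, phiU t μ (x * (t * (b : G)) * x⁻¹)) =
      if b = 1 then 8 * (Nat.card (Subgroup.centralizer ({t} : Set G)) : ℂ) else 0 := by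
    intro b
    split_ifs with hb
    · subst hb
      rw [show t * ((1 : R) : G) = t by simp, sum_phiU_t L D, map_mul, map_ofNat,
        Complex.conj_natCast]
      ring
    · rw [Finset.sum_eq_zero, map_zero, mul_zero]
      intro x _
      by_contra hne
      obtain ⟨w, hw⟩ := exists_of_phiU L D hne
      apply hb
      refine Subtype.ext (L.pow_six_R b.2 ?_)
      have h6 : (x * (t * (b : G)) * x⁻¹) ^ 6 = 1 := by
        rw [hw, show (6 : ℕ) = 3 * 2 from rfl, pow_mul, tu_cube L D w.2, pow_two, L.setup.t_mul]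
      rw [conj_pow, conj_eq_one_iff, ((L.R_cent b b.2).1.symm).mul_pow,
        show (6 : ℕ) = 2 * 3 from rfl, pow_mul t, pow_two, L.setup.t_mul, one_pow, one_mul] at h6
      exact h6
  rw [Finset.sum_congr rfl fun b _ => key b, Finset.sum_ite_eq', if_pos (Finset.mem_univ _),
    card_HU L D, L.card_HR, L.card_C_cast]
  have h1 : (q : ℂ) ≠ 0 := Nat.cast_ne_zero.2 (by have := L.setup.facts.big; omega)
  have h2 : (Nat.card R : ℂ) ≠ 0 := Nat.cast_ne_zero.2 Nat.card_pos.ne'
  have h3 := L.card_R_cast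
  push_cast
  field_simp
  linear_combination -((q : ℂ) - 1) * h3

/-- `⟨Ind ψ, φ_U⟩ = 0`. -/
theorem inner_AU [Fintype G] [Fintype A] (l : R →* ℂˣ) :
    classInner (indFun A (fun x : A => psi t v l x))
      (indFun (HU L D) (fun x : HU L D => phiU t μ x)) = 0 := by
  classical
  have := Fintype.ofFinite R
  rw [inner_ind_fun A (HU L D) _ _ (fun x hx => off L D hx),
    L.sum_A_psi l (fun y => conj (∑ x : G, phiU t μ (x * y * x⁻¹))), Finset.sum_eq_zero, mul_zero]
  intro b _
  by_cases hb : b = 1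
  · simp [hb]
  have hd : ∀ d, d * d = 1 → Commute d (b : G) → ∑ x : G, phiU t μ (x * (d * (b : G)) * x⁻¹) = 0 := by
    intro d hd hc
    refine Finset.sum_eq_zero fun x _ => ?_
    by_contra hne
    obtain ⟨w, hw⟩ := exists_of_phiU L D hne
    apply hb
    refine Subtype.ext (L.pow_six_R b.2 ?_)
    have h6 : (x * (d * (b : G)) * x⁻¹) ^ 6 = 1 := by
      rw [hw, show (6 : ℕ) = 3 * 2 from rfl, pow_mul, tu_cube L D w.2, pow_two, L.setup.t_mul]
    rw [conj_pow, conj_eq_one_iff, hc.mul_pow, show (6 : ℕ) = 2 * 3 from rfl, pow_mul d, pow_two,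
      hd, one_pow, one_mul] at h6
    exact h6
  obtain ⟨g1, g2⟩ := L.R_cent b b.2
  rw [hd t L.setup.t_mul g1.symm, hd _ L.tv_sq (g1.symm.mul_left g2.symm)]
  simp

theorem pairCount_tu [Finite G] {u : G} (hu : u ∈ U) (hu1 : u ≠ 1) : pairCount t (t * u) = 0 := by
  rw [pairCount_eq_card L.setup.t_mul]
  have : IsEmpty {y : G // IsConj t y ∧ IsConj t (y * (t * u))} := by
    refine ⟨fun ⟨y, hy1, hy2⟩ => hu1 ?_⟩
    have hsq : ∀ w, IsConj t w → w * w = 1 := fun w hw => by
      obtain ⟨c, rfl⟩ := isConj_iff.1 hw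
      rw [← conj_mul', L.setup.t_mul, mul_one, mul_inv_cancel]
    have hinv : y * (t * u) * y⁻¹ = (t * u)⁻¹ := by
      refine eq_inv_of_mul_eq_one_left ?_
      rw [inv_eq_of_mul_eq_one_right (hsq y hy1)]
      calc y * (t * u) * y * (t * u) = y * (t * u) * (y * (t * u)) := by group
        _ = 1 := hsq _ hy2
    have h4 := congrArg (· ^ 4) hinv
    simp only [conj_pow, inv_pow] at h4
    have e4 : (t * u) ^ 4 = u := by
      rw [((commU L D u hu).symm).mul_pow, pow_succ u 3, D.cube u hu, one_mul,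
        show (4 : ℕ) = 2 * 2 from rfl, pow_mul, show t ^ 2 = 1 by rw [pow_two, L.setup.t_mul],
        one_pow, one_mul]
    rw [e4] at h4
    exact L.setup.noInv y u (hsq y hy1) (D.cube u hu) h4
  exact Nat.card_of_isEmpty

end U

include L

theorem isConj_invol [Finite G] {y : G} (h2 : y * y = 1) (h1 : y ≠ 1) : IsConj t y :=
  L.setup.isConj_involution (orderOf_eq_prime (by rw [pow_two, h2]) h1)

theorem sq_of_isConj {y : G} (h : IsConj t y) : y * y = 1 ∧ y ≠ 1 := by
  obtain ⟨c, rfl⟩ := isConj_iff.1 h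
  exact ⟨by rw [← conj_mul', L.setup.t_mul, mul_one, mul_inv_cancel],
    fun e => L.setup.t_ne (conj_eq_one_iff.1 e)⟩

/-- The number of involutions of `K`. -/
theorem card_invol_K [Finite G] :
    2 * Nat.card {k : K // orderOf k = 2} = q * (q - 1) := by
  classical
  obtain ⟨k₀, r₀, F⟩ := L.setup.exists_frame
  set kK : K := ⟨k₀, F.kK⟩ with hkK
  have hk : orderOf kK = 2 := by rw [hkK, Subgroup.orderOf_mk, F.k2]
  have hfib : ∀ k : {k : K // orderOf k = 2},
      Nat.card {x : K // x * kK * x⁻¹ = k.1} = q + 1 := fun k => by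
    rw [CentralizerFour.card_conjugators_eq (L.setup.facts.conj2 _ _ hk k.2),
      (L.setup.facts.dihedral kK hk).1]
  have e : Nat.card K = Nat.card {k : K // orderOf k = 2} * (q + 1) := by
    let π : K → {k : K // orderOf k = 2} := fun x =>
      ⟨x * kK * x⁻¹, (orderOf_conj' x kK).trans hk⟩
    have := Fintype.ofFinite {k : K // orderOf k = 2}
    rw [← Nat.card_congr (Equiv.sigmaFiberEquiv π), Nat.card_sigma,
      Finset.sum_congr rfl (g := fun _ => q + 1) fun k _ => ?_, Finset.sum_const, Finset.card_univ,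
      smul_eq_mul, Nat.card_eq_fintype_card]
    exact (Nat.card_congr (Equiv.subtypeEquivRight fun x => Subtype.ext_iff)).trans (hfib k)
  have hc := L.setup.facts.card
  rw [e] at hc
  refine Nat.eq_of_mul_eq_mul_right (show 0 < q + 1 by omega) ?_
  rw [mul_assoc 2, hc, mul_assoc, pow_two, show 1 = 1 * 1 from rfl, Nat.mul_self_sub_mul_self_eq]
  ring

theorem pairCount_t [Finite G] : pairCount t t = q * (q - 1) := by
  classical
  rw [pairCount_eq_card L.setup.t_mul, ← L.card_invol_K, show 2 * Nat.card {k : K // orderOf k = 2} =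
    Nat.card (Bool × {k : K // orderOf k = 2}) by
      rw [Nat.card_prod, Nat.card_eq_fintype_card (α := Bool), Fintype.card_bool]]
  have hk : ∀ k : {k : K // orderOf k = 2}, ((k.1 : K) : G) * ((k.1 : K) : G) = 1 ∧
      ((k.1 : K) : G) ≠ 1 ∧ t * ((k.1 : K) : G) ≠ 1 := by
    intro k
    have h2 : orderOf ((k.1 : K) : G) = 2 := by rw [Subgroup.orderOf_coe, k.2]
    refine ⟨mul_self_of_orderOf h2, ne_one_of_orderOf h2, fun e => L.setup.tK ?_⟩
    rw [eq_inv_of_mul_eq_one_left e]
    exact K.inv_mem k.1.2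
  have hsq : ∀ k : {k : K // orderOf k = 2},
      t * ((k.1 : K) : G) * (t * ((k.1 : K) : G)) = 1 := fun k => by
    rw [← pow_two, (L.setup.comm _ k.1.2).symm.mul_pow, pow_two, pow_two, L.setup.t_mul, (hk k).1,
      one_mul]
  refine (Nat.card_eq_of_bijective (fun p : Bool × {k : K // orderOf k = 2} =>
    (⟨if p.1 then t * ((p.2.1 : K) : G) else ((p.2.1 : K) : G), ?_⟩ :
      {y : G // IsConj t y ∧ IsConj t (y * t)})) ⟨?_, ?_⟩).symm
  · obtain ⟨b, k⟩ := p
    have hc := L.setup.comm _ k.1.2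
    cases b
    · refine ⟨L.isConj_invol (hk k).1 (hk k).2.1, ?_⟩
      simp only [Bool.false_eq_true, if_false]
      rw [hc.eq]
      exact L.isConj_invol (hsq k) (hk k).2.2
    · refine ⟨L.isConj_invol (hsq k) (hk k).2.2, ?_⟩
      simp only [if_true]
      rw [mul_assoc, hc.eq, ← mul_assoc, L.setup.t_mul, one_mul]
      exact L.isConj_invol (hk k).1 (hk k).2.1
  · rintro ⟨b, k⟩ ⟨b', k'⟩ e
    have e' : (if b then t * ((k.1 : K) : G) else ((k.1 : K) : G)) =
        (if b' then t * ((k'.1 : K) : G) else ((k'.1 : K) : G)) := congrArg Subtype.val e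
    cases b <;> cases b' <;> simp at e'
    · exact Prod.ext rfl (Subtype.ext e')
    · exact absurd (e' ▸ k.1.2) (L.setup.not_both k'.1.2)
    · exact absurd (e'.symm ▸ k'.1.2) (L.setup.not_both k.1.2)
    · exact Prod.ext rfl (Subtype.ext e')
  · rintro ⟨y, hy1, hy2⟩
    obtain ⟨s1, n1⟩ := L.sq_of_isConj hy1
    obtain ⟨s2, n2⟩ := L.sq_of_isConj hy2
    have hyt : Commute y t := by
      have e := inv_eq_of_mul_eq_one_right s2
      rw [mul_inv_rev, inv_eq_of_mul_eq_one_right s1, L.setup.t_inv] at e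
      exact e.symm
    rcases L.setup.decomp y hyt with hK | hK
    · exact ⟨(false, ⟨⟨y, hK⟩, by
        rw [Subgroup.orderOf_mk]
        exact orderOf_eq_prime (by rw [pow_two, s1]) n1⟩), Subtype.ext (by simp)⟩
    · refine ⟨(true, ⟨⟨t * y, hK⟩, ?_⟩), Subtype.ext (by simp [← mul_assoc, L.setup.t_mul])⟩
      rw [Subgroup.orderOf_mk]
      refine orderOf_eq_prime ?_ fun e => n2 ?_
      · rw [hyt.symm.mul_pow, pow_two, pow_two, L.setup.t_mul, s1, one_mul]
      · rw [hyt.eq]; exact e

theorem pairCount_mul [Finite G] {d : G} (hd : d = t ∨ d = v ∨ d = t * v) {b : R} (hb : b ≠ 1) :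
    pairCount t (d * (b : G)) = Nat.card A := by
  have hb' : (b : G) ≠ 1 := fun e => hb (Subtype.ext e)
  obtain ⟨hdA, hd2⟩ : d ∈ A ∧ d * d = 1 := by
    rcases hd with rfl | rfl | rfl
    · exact ⟨L.t_mem_A, L.setup.t_mul⟩
    · exact ⟨L.v_mem_A, L.v2⟩
    · exact ⟨A.mul_mem L.t_mem_A L.v_mem_A, L.tv_sq⟩
  have hbA := L.R_le_A b.2
  have hmem : d * (b : G) ∈ A := A.mul_mem hdA hbA
  rw [pairCount_eq_card L.setup.t_mul]
  have hza : ∀ a ∈ A, z * a * (z * a) = 1 ∧ z * a ≠ 1 := fun a ha => by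
    refine ⟨?_, fun e => L.zA ?_⟩
    · calc z * a * (z * a) = z * a * z⁻¹ * (z * z) * a := by group
        _ = 1 := by rw [L.z_inv ha, L.z2, mul_one, inv_mul_cancel]
    · rw [eq_inv_of_mul_eq_one_left e]; exact A.inv_mem ha
  refine (Nat.card_eq_of_bijective (fun a : A => (⟨z * a, ?_⟩ :
    {y : G // IsConj t y ∧ IsConj t (y * (d * b))})) ⟨?_, ?_⟩).symm
  · refine ⟨L.isConj_invol (hza a a.2).1 (hza a a.2).2, ?_⟩
    rw [mul_assoc]
    exact L.isConj_invol (hza _ (A.mul_mem a.2 hmem)).1 (hza _ (A.mul_mem a.2 hmem)).2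
  · intro a a' e
    exact Subtype.ext (mul_left_cancel (congrArg Subtype.val e : z * (a : G) = z * a'))
  · rintro ⟨y, hy1, hy2⟩
    obtain ⟨s1, -⟩ := L.sq_of_isConj hy1
    obtain ⟨s2, -⟩ := L.sq_of_isConj hy2
    have hyi := inv_eq_of_mul_eq_one_right s1
    have hinv : y * (d * b) * y⁻¹ = (d * (b : G))⁻¹ := by
      refine eq_inv_of_mul_eq_one_left ?_
      rw [hyi]
      calc y * (d * b) * y * (d * b) = y * (d * b) * (y * (d * b)) := by group
        _ = 1 := s2
    have hdc : Commute d (b : G) := L.A_comm hdA hbA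
    have hinv' : (d * (b : G))⁻¹ = d * ((b⁻¹ : R) : G) := by
      rw [mul_inv_rev, inv_eq_of_mul_eq_one_right hd2]
      exact (hdc.inv_right).eq.symm
    obtain ⟨i, hi, a, ha, hform⟩ := L.mem_N_of_conj hd b.2 hb' hd (b⁻¹).2 (hinv.trans hinv')
    -- `y` fixes `d`
    have hyd : Commute y d := by
      have h1 := congrArg (· ^ Nat.card R) hinv
      simp only [conj_pow, inv_pow] at h1
      obtain ⟨j, hj⟩ := L.odd_R
      have e : (d * (b : G)) ^ Nat.card R = d := by
        rw [hdc.mul_pow, L.R_pow b.2, mul_one, hj, pow_succ, pow_mul, pow_two, hd2, one_pow, one_mul]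
      rw [e, inv_eq_of_mul_eq_one_right hd2] at h1
      exact mul_inv_eq_iff_eq_mul.1 h1
    obtain ⟨a', ha', hy'⟩ : ∃ a' : G, (a' * d * a'⁻¹ = d) ∧ y = f ^ i * a' := by
      obtain ⟨g1, g2⟩ := L.A_cent ha
      have hzd : Commute z d := by
        rcases hd with rfl | rfl | rfl
        · exact L.zt
        · exact L.zv
        · exact L.zt.mul_right L.zv
      rcases hform with e | e
      · exact ⟨a, by rw [(L.A_comm ha hdA).eq, mul_inv_cancel_right], e⟩
      · exact ⟨z * a, by rw [((hzd).mul_left (L.A_comm ha hdA)).eq, mul_inv_cancel_right], e⟩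
    have hfi : f ^ i * d * (f ^ i)⁻¹ = d := by
      have h1 : y * d * y⁻¹ = d := by rw [hyd.eq, mul_inv_cancel_right]
      rw [hy', mul_inv_rev] at h1
      calc f ^ i * d * (f ^ i)⁻¹ = f ^ i * (a' * d * a'⁻¹) * (f ^ i)⁻¹ := by rw [ha']
        _ = f ^ i * a' * d * (a'⁻¹ * (f ^ i)⁻¹) := by group
        _ = d := h1
    obtain rfl : i = 0 := by
      by_contra hne
      have hf : f * d * f⁻¹ = d := by
        obtain rfl | rfl : i = 1 ∨ i = 2 := by omega
        · simpa using hfi
        · calc f * d * f⁻¹ = f * (f ^ 2 * d * (f ^ 2)⁻¹) * f⁻¹ := by rw [hfi]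
            _ = f ^ 3 * d * (f ^ 3)⁻¹ := by rw [pow_succ' f 2]; group
            _ = d := by rw [L.f3]; simp
      rcases hd with rfl | rfl | rfl
      · exact L.vt (L.ft.symm.trans hf)
      · exact L.tv_ne.2.2 (L.fv.symm.trans hf)
      · exact L.tv_ne.2.1 (hf.symm.trans L.f_tv)
    rw [pow_zero, one_mul, one_mul] at hform
    rcases hform with e | e
    · exfalso
      rw [e] at hinv
      rw [(L.A_comm ha hmem).eq, mul_inv_cancel_right] at hinv
      apply hb'
      refine L.eq_one_of_sq b.2 ?_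
      have h2 : d * (b : G) * (d * (b : G)) = 1 := by nth_rw 2 [hinv]; exact mul_inv_cancel _
      rwa [← pow_two, hdc.mul_pow, pow_two, pow_two, hd2, one_mul] at h2
    · exact ⟨⟨a, ha⟩, Subtype.ext e.symm⟩

end Loc

end CfsgLib.ReeSThree
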