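import Cfsg.Agent.ReeSThree.FamilyPsl
import Cfsg.Agent.Eq.Def_Classical
import Cfsg.Agent.DefChar.UnipotentFlags
import Cfsg.Agent.JankoOne.Centralizer
import Cfsg.Agent.CIT.SimpleFacts

/-!
# Ree, Suzuki, unitary groups and `J₁`: sections `S₃` and `S₄`
-/

set_option autoImplicit false
set_option maxHeartbeats 400000

namespace CfsgLib.ReeSThree

open CfsgLib
open scoped Matrix

theorem twoSubgroupsComm_ree {G : Type*} [Group G] [Finite G] (hR : Cfsg.IsReeType G) :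
    TwoSubgroupsComm G := by
  have : Fact (Nat.Prime 2) := ⟨Nat.prime_two⟩
  obtain ⟨-, -, t, K, n, hn, ht, hodd, ⟨-, hKle, hcomm, -, hsup⟩, F, _, _, hF, ⟨e⟩⟩ := hR
  have hKc : TwoSubgroupsComm ↥K := (twoSubgroupsComm_psl_odd hF (Or.inl (by
    rw [pow_succ, pow_mul, Nat.mul_mod, Nat.pow_mod]; norm_num))).of_equiv e
  set C := Subgroup.centralizer ({t} : Set G) with hC
  -- 2-subgroups of `C`
  have hCc : ∀ Q : Subgroup G, Q ≤ C → IsPGroup 2 Q → ∀ u ∈ Q, ∀ v ∈ Q, Commute u v := by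
    intro Q hQC hQ u hu v hv
    have hT : IsPGroup 2 (Subgroup.zpowers t) :=
      IsPGroup.of_card (p := 2) (n := 1) (by rw [Nat.card_zpowers, ht, pow_one])
    have hQn : Q ≤ Subgroup.normalizer (Subgroup.zpowers t : Set G) := fun x hx => by
      refine Subgroup.mem_normalizer_iff_map_conj_eq.2 ?_
      rw [MonoidHom.map_zpowers]
      change Subgroup.zpowers (x * t * x⁻¹) = _
      rw [(Subgroup.mem_centralizer_singleton_iff.1 (hQC hx)), mul_inv_cancel_right]
    set Q' := Q ⊔ Subgroup.zpowers t with hQ'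
    have hQ'p : IsPGroup 2 Q' := hQ.to_sup_of_normal_right' hT hQn
    have hn' : Subgroup.zpowers t ≤ Subgroup.normalizer (K : Set G) := by
      refine Subgroup.zpowers_le.2 (Subgroup.mem_normalizer_iff.2 fun y => ?_)
      constructor
      · intro hy
        rwa [hcomm t (Subgroup.mem_zpowers t) y hy, mul_inv_cancel_right]
      · intro hy
        have h := hcomm t (Subgroup.mem_zpowers t) _ hy
        rw [show t * (t * y * t⁻¹) = t * t * y * t⁻¹ by group] at h
        have h2 : t * t = 1 := by rw [← pow_two, ← ht, pow_orderOf_eq_one]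
        rw [h2, one_mul, inv_mul_cancel_right, inv_eq_of_mul_eq_one_right h2] at h
        rw [← inv_eq_of_mul_eq_one_right h2] at hy
        rw [inv_inv] at hy
        have h3 : t * y * t = y := by rw [← h, mul_assoc, h2, mul_one]
        rwa [inv_eq_of_mul_eq_one_right h2, h3] at hy
    have comp : ∀ w ∈ Q, ∃ a ∈ Subgroup.zpowers t, ∃ b ∈ K, b ∈ Q' ∧ w = a * b := by
      intro w hw
      have hmem : w ∈ ((Subgroup.zpowers t ⊔ K : Subgroup G) : Set G) := by
        rw [hsup]; exact hQC hw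
      rw [Subgroup.coe_mul_of_left_le_normalizer_right _ _ hn'] at hmem
      obtain ⟨a, ha, b, hb, rfl⟩ := hmem
      refine ⟨a, ha, b, hb, ?_, rfl⟩
      have := Q'.mul_mem (Q'.inv_mem (Subgroup.mem_sup_right ha)) (Subgroup.mem_sup_left hw)
      simpa using this
    obtain ⟨a, ha, b, hb, hb', rfl⟩ := comp u hu
    obtain ⟨c, hc, d, hd, hd', rfl⟩ := comp v hv
    have hbd : Commute b d := congrArg Subtype.val (hKc (Q'.subgroupOf K)
      (hQ'p.comap_of_injective _ K.subtype_injective) ⟨b, hb⟩ hb' ⟨d, hd⟩ hd').eq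
    have hac : Commute a c := by
      obtain ⟨i, rfl⟩ := ha
      obtain ⟨j, rfl⟩ := hc
      exact (Commute.refl t).zpow_zpow i j
    have hzK : ∀ z ∈ Subgroup.zpowers t, ∀ k ∈ K, Commute z k := fun z hz k hk => hcomm z hz k hk
    exact Commute.mul_left (hac.mul_right (hzK a ha d hd))
      ((hzK c hc b hb).symm.mul_right hbd)
  -- a Sylow subgroup inside `C`
  obtain ⟨P0⟩ : Nonempty (Sylow 2 ↥C) := inferInstance
  have hidx : ¬ 2 ∣ ((P0 : Subgroup ↥C).map C.subtype).index := by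
    rw [Subgroup.index_map_subtype]
    intro h
    rcases (Nat.Prime.dvd_mul Nat.prime_two).1 h with h | h
    · exact P0.not_dvd_index h
    · exact Nat.not_even_iff_odd.2 hodd (even_iff_two_dvd.2 h)
  intro Q hQ u hu v hv
  obtain ⟨S, hS⟩ := hQ.exists_le_sylow
  set P : Sylow 2 G := (P0.isPGroup'.map C.subtype).toSylow hidx with hP
  obtain ⟨g, hg⟩ := MulAction.exists_smul_eq G P S
  rw [← hg, Sylow.coe_subgroup_smul] at hS
  obtain ⟨u', hu', rfl⟩ := hS hu
  obtain ⟨v', hv', rfl⟩ := hS hv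
  exact (hCc _ (Subgroup.map_subtype_le _) (P0.isPGroup'.map C.subtype) u' hu' v' hv').map
    (MulDistribMulAction.toMonoidEnd _ _ (MulAut.conj g) : G →* G)

theorem not_three_dvd_of_isoSuzuki {G : Type*} [Group G] (h : Cfsg.Lie.IsoSuzuki G) :
    ¬ 3 ∣ Nat.card G := by
  obtain ⟨F, _, _, _, m, hm, hF, ⟨e⟩⟩ := CIT.isoSuzuki_model h
  rw [Nat.card_congr e.toEquiv, Suzuki.card_grp (Suzuki.titsEndo_theta hm hF),
    Nat.card_eq_fintype_card, hF]
  have hq : 2 ^ (2 * m + 1) % 3 = 2 := by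
    rw [pow_succ, pow_mul, Nat.mul_mod, Nat.pow_mod]; simp
  intro hd
  generalize 2 ^ (2 * m + 1) = q at hq hd
  obtain ⟨k, rfl⟩ : ∃ k, q = 3 * k + 2 := ⟨q / 3, by omega⟩
  rcases (Nat.Prime.dvd_mul Nat.prime_three).1 hd with hd | hd
  · rcases (Nat.Prime.dvd_mul Nat.prime_three).1 hd with hd | hd
    · have := Nat.prime_three.dvd_of_dvd_pow hd; omega
    · have : (3 * k + 2) ^ 2 + 1 = 3 * (3 * k ^ 2 + 4 * k + 1) + 2 := by ring
      omega
  · omega

section Unitary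

variable {F : Type*} [Field F] [Fintype F] {n : ℕ}

theorem charP_two_of_card (hF : Fintype.card F = 4 ^ n) : CharP F 2 := by
  obtain ⟨p, hp⟩ := CharP.exists F
  obtain ⟨f, hpp, hcard⟩ := FiniteField.card F p
  have h : p ∣ 4 ^ n := by rw [← hF, hcard]; exact dvd_pow_self p f.pos.ne'
  have : p ∣ 2 ^ 2 := hpp.dvd_of_dvd_pow h
  rwa [(Nat.prime_dvd_prime_iff_eq hpp Nat.prime_two).1 (hpp.dvd_of_dvd_pow this)] at hp

/-- The Klein four subgroup of `S₄`. -/
def kleinPerm : Subgroup (Equiv.Perm (Fin 4)) where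
  carrier := {σ | σ = 1 ∨ σ = Equiv.swap 0 1 * Equiv.swap 2 3 ∨
    σ = Equiv.swap 0 2 * Equiv.swap 1 3 ∨ σ = Equiv.swap 0 3 * Equiv.swap 1 2}
  one_mem' := Or.inl rfl
  mul_mem' := by
    simp only [Set.mem_ofPred_eq]
    decide +kernel
  inv_mem' := by
    simp only [Set.mem_ofPred_eq]
    decide +kernel

theorem not_involves_four_psu (hF : Fintype.card F = 4 ^ n) :
    ¬ Cfsg.Involves (Equiv.Perm (Fin 4)) (Cfsg.PSU 3 F (2 ^ n)) := by
  have := charP_two_of_card hF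
  have : Fact (Nat.Prime 2) := ⟨Nat.prime_two⟩
  let ρ : ↥(Cfsg.SU 3 F (2 ^ n)) →* Matrix (Fin 3) (Fin 3) F :=
    (Cfsg.slToMat 3 F).comp (Cfsg.SU 3 F (2 ^ n)).subtype
  have hρ : Function.Injective ρ := fun a b h => Subtype.ext (Subtype.ext h)
  have hiso : ∀ g u v, DefChar.hermLeft (2 ^ n) (ρ g *ᵥ v) (ρ g *ᵥ u) =
      DefChar.hermLeft (2 ^ n) v u := fun g u v => g.2 u v
  have hmem : ∀ σ, σ ∈ kleinPerm ↔ (σ = 1 ∨ σ = Equiv.swap 0 1 * Equiv.swap 2 3 ∨
    σ = Equiv.swap 0 2 * Equiv.swap 1 3 ∨ σ = Equiv.swap 0 3 * Equiv.swap 1 2) := fun σ => Iff.rfl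
  have hN : kleinPerm.Normal := ⟨by simp only [hmem]; decide +kernel⟩
  have hV : IsPGroup 2 kleinPerm := by
    rintro ⟨σ, hσ⟩
    refine ⟨1, Subtype.ext ?_⟩
    change σ ^ (2 ^ 1) = 1
    rw [hmem] at hσ
    revert σ
    decide +kernel
  have hV1 : kleinPerm ≠ ⊥ := fun h => by
    have h' : (Equiv.swap 0 1 * Equiv.swap 2 3 : Equiv.Perm (Fin 4)) ∈ kleinPerm :=
      Or.inr (Or.inl rfl)
    rw [h, Subgroup.mem_bot] at h'
    revert h'
    decide +kernel
  refine DefChar.not_involves_of_normalizerPClosed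
    (DefChar.normalizerPClosed_three n ρ hρ hiso) (QuotientGroup.mk' _)
    (QuotientGroup.mk'_surjective _) kleinPerm hV hV1 (Equiv.swap 0 1) (Equiv.swap 1 2)
    ⟨1, by decide +kernel⟩ ⟨1, by decide +kernel⟩ fun k hk => ?_
  have h3 : orderOf (Equiv.swap (0 : Fin 4) 1 * Equiv.swap 1 2) = 3 := by
    have : Fact (Nat.Prime 3) := ⟨Nat.prime_three⟩
    exact orderOf_eq_prime (by decide +kernel) (by decide +kernel)
  have := orderOf_dvd_of_pow_eq_one hk
  rw [h3] at this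
  have := Nat.prime_three.dvd_of_dvd_pow this
  omega

/-- Permutation matrices are unitary. -/
theorem involves_three_psu (hF : Fintype.card F = 4 ^ n) :
    Cfsg.Involves (Equiv.Perm (Fin 3)) (Cfsg.PSU 3 F (2 ^ n)) := by
  have := charP_two_of_card hF
  let M : Equiv.Perm (Fin 3) → Matrix (Fin 3) (Fin 3) F := fun σ => σ.permMatrix F
  have hdet : ∀ σ, (M σ).det = 1 := fun σ => by
    rw [Matrix.det_permutation]
    rcases Int.units_eq_one_or (Equiv.Perm.sign σ) with h | h <;> rw [h] <;>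
      simp [CharTwo.neg_eq]
  let f : Equiv.Perm (Fin 3) →* Matrix.SpecialLinearGroup (Fin 3) F :=
    MonoidHom.mk' (fun σ => ⟨M σ⁻¹, hdet _⟩) fun σ τ => Subtype.ext (by
      show M (σ * τ)⁻¹ = M σ⁻¹ * M τ⁻¹
      rw [mul_inv_rev]
      exact Matrix.permMatrix_mul _ _)
  have hf : ∀ σ, f σ ∈ Cfsg.SU 3 F (2 ^ n) := fun σ => by
    intro u v
    show ∑ i, (M σ⁻¹ *ᵥ u) i * ((M σ⁻¹ *ᵥ v) i) ^ (2 ^ n) = ∑ i, u i * v i ^ (2 ^ n)
    simp only [M, Matrix.permMatrix_mulVec, Function.comp]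
    exact Equiv.sum_comp σ⁻¹ (fun i => u i * v i ^ (2 ^ n))
  let g : Equiv.Perm (Fin 3) →* Cfsg.PSU 3 F (2 ^ n) :=
    (QuotientGroup.mk' _).comp (f.codRestrict _ hf)
  have hy : g (finRotate 3) ≠ 1 := fun h => by
    have hc := Subgroup.mem_center_iff.1 ((QuotientGroup.eq_one_iff _).1 h)
      ((f.codRestrict _ hf) (Equiv.swap 0 1))
    have h1 : f (Equiv.swap 0 1 * finRotate 3) = f (finRotate 3 * Equiv.swap 0 1) := by
      rw [map_mul, map_mul]; exact congrArg Subtype.val hc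
    have h2 : M (Equiv.swap 0 1 * finRotate 3)⁻¹ = M (finRotate 3 * Equiv.swap 0 1)⁻¹ :=
      congrArg Subtype.val h1
    have h3 := congrFun (congrFun h2 0)
    have := h3 ((Equiv.swap (0 : Fin 3) 1 * finRotate 3)⁻¹ 0)
    simp only [M, Equiv.Perm.permMatrix, PEquiv.toMatrix_apply, Equiv.toPEquiv_apply,
      Option.mem_some_iff] at this
    rw [if_pos trivial, if_neg (by decide +kernel)] at this
    exact one_ne_zero this
  refine involves_three_of_inverted (x := g (Equiv.swap 0 1)) (y := g (finRotate 3)) ?_ ?_ hy ?_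
  · rw [← map_mul, Equiv.swap_mul_self, map_one]
  · rw [← map_pow, show (finRotate 3 : Equiv.Perm (Fin 3)) ^ 3 = 1 by decide +kernel, map_one]
  · rw [← map_inv, ← map_inv, ← map_mul, ← map_mul]
    exact congrArg g (show Equiv.swap (0 : Fin 3) 1 * finRotate 3 * (Equiv.swap (0 : Fin 3) 1)⁻¹ = (finRotate 3)⁻¹ by decide +kernel)

end Unitary

theorem twoSubgroupsComm_janko : TwoSubgroupsComm ↥Cfsg.Spor.J1 := by
  intro Q hQ u hu v hv
  have : Fact (Nat.Prime 2) := ⟨Nat.prime_two⟩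
  obtain ⟨S, hS⟩ := hQ.exists_le_sylow
  obtain ⟨g, hg⟩ := MulAction.exists_smul_eq ↥Cfsg.Spor.J1
    (Sylow.ofCard JankoOne.sylowTwo (by rw [JankoOne.card_sylowTwo, JankoOne.factorization_two]; rfl)) S
  rw [← hg, Sylow.coe_subgroup_smul] at hS
  obtain ⟨u', ⟨i, rfl⟩, rfl⟩ := hS hu
  obtain ⟨v', ⟨j, rfl⟩, rfl⟩ := hS hv
  refine Commute.map ?_ (MulDistribMulAction.toMonoidEnd _ _ (MulAut.conj g) : _ →* _)
  obtain ⟨k, hk⟩ := (JankoOne.eElt_facts i j).2.1
  have hi : ∀ i, (JankoOne.eElt i)⁻¹ = JankoOne.eElt i := fun i =>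
    inv_eq_of_mul_eq_one_right (JankoOne.eElt_facts i i).1
  show JankoOne.eElt i * JankoOne.eElt j = JankoOne.eElt j * JankoOne.eElt i
  conv_lhs => rw [hk, ← hi k, ← hk, mul_inv_rev, hi i, hi j]

theorem involves_three_janko : Cfsg.Involves (Equiv.Perm (Fin 3)) ↥Cfsg.Spor.J1 := by
  let x : alternatingGroup (Fin 5) := ⟨Equiv.swap 0 1 * Equiv.swap 3 4, Equiv.Perm.mem_alternatingGroup.2 (by decide +kernel)⟩
  let y : alternatingGroup (Fin 5) := ⟨Equiv.swap 0 1 * Equiv.swap 1 2, Equiv.Perm.mem_alternatingGroup.2 (by decide +kernel)⟩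
  refine involves_three_of_inverted (x := JankoOne.phiFive x) (y := JankoOne.phiFive y) ?_ ?_ ?_ ?_
  · rw [← map_mul, show x * x = 1 by decide +kernel, map_one]
  · rw [← map_pow, show y ^ 3 = 1 by decide +kernel, map_one]
  · intro h
    have h' : y = 1 := JankoOne.phiFive_injective (h.trans (map_one _).symm)
    revert h'
    decide +kernel
  · rw [← map_inv, ← map_inv, ← map_mul, ← map_mul]
    exact congrArg _ (by decide +kernel)

end CfsgLib.ReeSThree
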