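import Cfsg.Agent.ReeSThree.CharU

/-!
# A group of Ree type involves the symmetric group of degree three
-/

set_option autoImplicit false
set_option maxHeartbeats 400000

namespace CfsgLib.ReeSThree

open Cfsg CfsgLib.Chars CfsgLib.Chars.Exceptional
open scoped ComplexConjugate

universe u

variable {G : Type u} [Group G]

namespace Loc

variable {t : G} {K : Subgroup G} {q : ℕ} {R A : Subgroup G} {v z f : G}
  (L : Loc t K q R A v z f)
include L

theorem pairSum_A [Fintype G] [Fintype A] {l : R →* ℂˣ} (hl : ∃ b, l b ≠ 1) :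
    pairSum t (indFun A (fun x : A => psi t v l x)) =
      ((q : ℂ) + 1) * (Nat.card (Subgroup.centralizer ({t} : Set G)) : ℂ) ^ 2 := by
  classical
  have := Fintype.ofFinite R
  rw [pairSum_ind]
  change (Nat.card A : ℂ)⁻¹ * ((Nat.card (Subgroup.centralizer ({t} : Set G)) : ℂ) ^ 2 *
    ∑ a : A, (fun y : G => psi t v l y * (pairCount t y : ℂ)) a) = _
  rw [L.sum_A_psi l (fun y => (pairCount t y : ℂ))]
  have key : ∀ b : R, 2 * (1 - (l b : ℂ)) *
      ((pairCount t (t * (b : G)) : ℂ) + (pairCount t (t * v * (b : G)) : ℂ)) =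
      2 * (1 - (l b : ℂ)) * (2 * (Nat.card A : ℂ)) := by
    intro b
    by_cases hb : b = 1
    · simp [hb]
    rw [L.pairCount_mul (Or.inl rfl) hb, L.pairCount_mul (Or.inr (Or.inr rfl)) hb]
    ring
  rw [Finset.sum_congr rfl fun b _ => key b, ← Finset.sum_mul, sum_one_sub l hl, L.card_A,
    ← L.card_R]
  have : (Nat.card R : ℂ) ≠ 0 := Nat.cast_ne_zero.2 Nat.card_pos.ne'
  rw [← L.card_R_cast]
  push_cast
  field_simp
  ring

theorem pairSum_R [Fintype G] [Fintype L.HR] :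
    (Nat.card R : ℂ) * pairSum t (indFun L.HR (fun x : L.HR => twistFun t R (1 : R →* ℂˣ) x)) =
      ((q : ℂ) * ((q : ℂ) - 1) + ((Nat.card R : ℂ) - 1) * ((q : ℂ) + 1)) *
        (Nat.card (Subgroup.centralizer ({t} : Set G)) : ℂ) ^ 2 := by
  classical
  have := Fintype.ofFinite R
  rw [pairSum_ind]
  change _ * ((Nat.card L.HR : ℂ)⁻¹ * ((Nat.card (Subgroup.centralizer ({t} : Set G)) : ℂ) ^ 2 *
    ∑ a : L.HR, (fun y : G => twistFun t R (1 : R →* ℂˣ) y * (pairCount t y : ℂ)) a)) = _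
  rw [L.sum_HR (fun y => (pairCount t y : ℂ))]
  have hq1 : ((q - 1 : ℕ) : ℂ) = (q : ℂ) - 1 := by
    rw [Nat.cast_sub (by have := L.setup.facts.big; omega)]; simp
  have key : ∀ b : R, 2 * (pairCount t (t * (b : G)) : ℂ) = 2 * (Nat.card A : ℂ) +
      (if b = 1 then 2 * ((q : ℂ) * ((q : ℂ) - 1)) - 2 * (Nat.card A : ℂ) else 0) := by
    intro b
    split_ifs with hb
    · subst hb
      rw [show t * ((1 : R) : G) = t by simp, L.pairCount_t, Nat.cast_mul, hq1]
      ring
    · rw [L.pairCount_mul (Or.inl rfl) hb, add_zero]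
  rw [Finset.sum_congr rfl fun b _ => key b, Finset.sum_add_distrib, Finset.sum_ite_eq',
    if_pos (Finset.mem_univ _), Finset.sum_const, Finset.card_univ, nsmul_eq_mul,
    ← Nat.card_eq_fintype_card, L.card_HR, L.card_A]
  have : (Nat.card R : ℂ) ≠ 0 := Nat.cast_ne_zero.2 Nat.card_pos.ne'
  push_cast
  field_simp
  ring

theorem pairSum_U [Fintype G] {U : Subgroup G} {μ : U →* ℂˣ} (D : UData t K q U μ)
    [Fintype (Loc.U.HU L D)] :
    pairSum t (indFun (Loc.U.HU L D) (fun x : Loc.U.HU L D => phiU t μ x)) =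
      2 * ((q : ℂ) - 1) * (Nat.card (Subgroup.centralizer ({t} : Set G)) : ℂ) ^ 2 := by
  classical
  have := Fintype.ofFinite U
  rw [pairSum_ind]
  change (Nat.card (Loc.U.HU L D) : ℂ)⁻¹ *
    ((Nat.card (Subgroup.centralizer ({t} : Set G)) : ℂ) ^ 2 *
      ∑ a : Loc.U.HU L D, (fun y : G => phiU t μ y * (pairCount t y : ℂ)) a) = _
  rw [Loc.U.sum_HU L D (fun y => (pairCount t y : ℂ)), Finset.sum_eq_single 1]
  · rw [show t * ((1 : U) : G) = t by simp, L.pairCount_t, Loc.U.card_HU L D, inv_one, map_one,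
      Units.val_one, Nat.cast_mul, Nat.cast_mul, Nat.cast_sub (by have := L.setup.facts.big; omega)]
    have : (q : ℂ) ≠ 0 := Nat.cast_ne_zero.2 (by have := L.setup.facts.big; omega)
    push_cast
    field_simp
    ring
  · intro w _ hw
    rw [Loc.U.pairCount_tu L D w.2 (fun e => hw (Subtype.ext e)), Nat.cast_zero, mul_zero]
  · exact fun h => absurd (Finset.mem_univ _) h

theorem indA_t [Fintype G] [Fintype A] (l : R →* ℂˣ) :
    indFun A (fun x : A => psi t v l x) t = 0 := by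
  rw [indFun_apply_conj (fun x hx => L.psi_eq_zero l hx), Finset.sum_eq_zero, mul_zero]
  intro x _
  by_contra hne
  obtain ⟨d, hd, b, hb⟩ := L.exists_of_psi hne
  obtain ⟨g1, g2⟩ := L.R_cent b b.2
  have hd2 : d * d = 1 ∧ Commute d (b : G) := by
    rcases hd with rfl | rfl | rfl
    · exact ⟨L.setup.t_mul, g1.symm⟩
    · exact ⟨L.v2, g2.symm⟩
    · exact ⟨L.tv_sq, g1.symm.mul_left g2.symm⟩
  have h2 : x * t * x⁻¹ * (x * t * x⁻¹) = 1 := by
    rw [← conj_mul', L.setup.t_mul, mul_one, mul_inv_cancel]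
  rw [hb, ← pow_two, hd2.2.mul_pow, pow_two, pow_two, hd2.1, one_mul] at h2
  have hb1 : b = 1 := Subtype.ext (L.eq_one_of_sq b.2 h2)
  apply hne
  rcases hd with rfl | rfl | rfl <;> rw [hb, hb1]
  · rw [L.psi_t, map_one]; simp
  · exact L.psi_v l 1
  · rw [L.psi_tv, map_one]; simp

/-- The final contradiction. -/
theorem elim [Finite G] : False := by
  classical
  haveI := Fintype.ofFinite G
  have h := L.setup
  obtain ⟨l, hl, hfix⟩ := L.exists_hom
  obtain ⟨U₀, μ, D⟩ := h.exists_udata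
  set C : ℕ := Nat.card (Subgroup.centralizer ({t} : Set G)) with hC
  set IA := indFun A (fun x : A => psi t v l x) with hIA
  set IR := indFun L.HR (fun x : L.HR => twistFun t R (1 : R →* ℂˣ) x) with hIR
  set IU := indFun (Loc.U.HU L D) (fun x : Loc.U.HU L D => phiU t μ x) with hIU
  set Φ : G → ℂ := IA - (IR - (2 : ℤ) • IU) with hΦ
  have hgR : IsGeneralizedCharacter L.HR (fun x : L.HR => twistFun t R (1 : R →* ℂˣ) x) :=
    gen_twist h.t_mul L.comm_R_t L.t_not_mem_R 1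
  have hgen : IsGeneralizedCharacter G Φ :=
    gen_sub (gen_ind (L.gen_psi l)) (gen_sub (gen_ind hgR) (gen_zsmul 2 (gen_ind (Loc.U.gen L D))))
  have hAA : classInner IA IA = 10 := L.inner_AA hl hfix
  have hAR : classInner IA IR = 8 := L.inner_AR hl
  have hRR : classInner IR IR = 8 * (2 * (q : ℂ) - 3) := L.inner_RR
  have hUU : classInner IU IU = 4 * (q : ℂ) := Loc.U.inner_UU L D
  have hRU : classInner IR IU = 8 * ((q : ℂ) - 1) := Loc.U.inner_RU L D
  have hAU : classInner IA IU = 0 := Loc.U.inner_AU L D l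
  have hRA : classInner IR IA = 8 := by rw [← Exceptional.inner_conj_symm, hAR, map_ofNat]
  have hUA : classInner IU IA = 0 := by rw [← Exceptional.inner_conj_symm, hAU, map_zero]
  have hUR : classInner IU IR = 8 * ((q : ℂ) - 1) := by
    rw [← Exceptional.inner_conj_symm, hRU, map_mul, map_sub, map_ofNat, map_one, Complex.conj_natCast]
  have hnorm : classInner Φ Φ = 2 := by
    simp only [hΦ, Exceptional.inner_sub_left, Exceptional.inner_sub_right, Exceptional.inner_zsmul_left, Exceptional.inner_zsmul_right, hAA, hAR,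
      hRR, hUU, hRU, hAU, hRA, hUA, hUR]
    push_cast
    ring
  have h1t : ∀ {H : Subgroup G} (θ : H → ℂ), θ 1 = 0 → indFun H θ 1 = 0 := fun θ hθ => by
    rw [Induced.indFun_one_apply, hθ, mul_zero]
  have hone : Φ 1 = 0 := by
    have a1 : IA 1 = 0 := h1t _ (L.psi_R l 1)
    have a2 : IR 1 = 0 := h1t _ (twistFun_mem L.t_not_mem_R _ R.one_mem)
    have a3 : IU 1 = 0 := h1t _ (Loc.U.phiU_mem L D U₀.one_mem)
    simp [hΦ, a1, a2, a3]
  have htt : Φ t = 4 * ((q : ℂ) - 1) := by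
    have a1 : IA t = 0 := L.indA_t l
    have a2 : IR t = 4 * (q : ℂ) * ((q : ℂ) - 1) := by
      rw [hIR, indFun_apply_conj (fun x hx => L.phiR_off hx), L.sum_phiR_t, L.card_HR, L.card_C_cast]
      have : (Nat.card R : ℂ) ≠ 0 := Nat.cast_ne_zero.2 Nat.card_pos.ne'
      push_cast
      field_simp
      linear_combination -(q : ℂ) * ((q : ℂ) - 1) * L.card_R_cast
    have a3 : IU t = 2 * ((q : ℂ) ^ 2 - 1) := by
      rw [hIU, indFun_apply_conj (fun x hx => Loc.U.off L D hx), Loc.U.sum_phiU_t L D,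
        Loc.U.card_HU L D, L.card_C_cast]
      have : (q : ℂ) ≠ 0 := Nat.cast_ne_zero.2 (by have := h.facts.big; omega)
      push_cast
      field_simp
      ring
    simp [hΦ, a1, a2, a3]
    ring
  have hpair : ((q : ℂ) + 1) * pairSum t Φ = 8 * (q : ℂ) * (C : ℂ) ^ 2 := by
    have e2 : (2 : ℤ) • IU = (2 : ℂ) • IU := by
      funext x; simp
    rw [hΦ, pairSum_sub, pairSum_sub, e2, pairSum_smul, L.pairSum_A hl, L.pairSum_U D]
    have hR4 := L.card_R_cast
    have hR := L.pairSum_R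
    rw [← hIR, ← hC] at hR
    rw [← hC]
    linear_combination -4 * hR + (pairSum t IR + ((q : ℂ) + 1) * (-1) * (C : ℂ) ^ 2) * hR4
  obtain ⟨a, b, n, hn, hab, hsum, hle⟩ := norm_two_arith h.t_mul hgen hnorm hone
  rw [htt] at hab
  rw [h.card_C] at hle
  obtain ⟨I, hI⟩ : ∃ I, I = (Subgroup.centralizer ({t} : Set G)).index := ⟨_, rfl⟩
  have hG : (Nat.card G : ℂ) = (C : ℂ) * I := by
    rw [hC, hI]
    exact_mod_cast (Subgroup.card_mul_index _).symm
  rw [hsum, hG] at hpair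
  have hn' : (n : ℂ) ≠ 0 := Nat.cast_ne_zero.2 hn.ne'
  have hC0 : (C : ℂ) ≠ 0 := Nat.cast_ne_zero.2 Nat.card_pos.ne'
  have hCq : (C : ℂ) = (q : ℂ) * ((q : ℂ) ^ 2 - 1) := L.card_C_cast
  have hq1 : (q : ℂ) - 1 ≠ 0 := sub_ne_zero.2 fun e => by
    have : q = 1 := by exact_mod_cast e
    have := h.facts.big
    omega
  have hq2 : (q : ℂ) + 1 ≠ 0 := by
    rw [← L.card_R_cast]
    exact mul_ne_zero (by norm_num) (Nat.cast_ne_zero.2 Nat.card_pos.ne')
  have hkey : (I : ℂ) * ((a : ℂ) + b) = 2 * (q : ℂ) ^ 2 * n := by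
    field_simp at hpair
    have h3 : (4 : ℂ) * ((q : ℂ) - 1) * ((q : ℂ) + 1) *
        ((I : ℂ) * ((a : ℂ) + b) - 2 * (q : ℂ) ^ 2 * n) = 0 := by
      linear_combination hpair - (I : ℂ) * ((q : ℂ) + 1) * ((a : ℂ) + b) * hab
        + 8 * (q : ℂ) * (n : ℂ) * hCq
    exact sub_eq_zero.1 ((mul_eq_zero.1 h3).resolve_left
      (mul_ne_zero (mul_ne_zero (by norm_num) hq1) hq2))
  have hkey' : (I : ℤ) * (a + b) = 2 * (q : ℤ) ^ 2 * n := by exact_mod_cast hkey
  have hcop : IsCoprime ((q : ℤ) ^ 2) (I : ℤ) := by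
    obtain ⟨m, hm⟩ := h.facts.three_pow
    refine IsCoprime.pow_left ?_
    rw [Int.isCoprime_iff_gcd_eq_one, Int.gcd_natCast_natCast, hm]
    refine Nat.Coprime.pow_left m ((Nat.prime_three.coprime_iff_not_dvd).2 ?_)
    rw [hI]
    exact h.not_three_dvd_index
  have hdvd : (q : ℤ) ^ 2 ∣ a + b :=
    hcop.dvd_of_dvd_mul_left ⟨2 * n, by rw [hkey']; ring⟩
  have hq27 : (27 : ℤ) ≤ q := by exact_mod_cast h.facts.big
  have hne : a + b ≠ 0 := by
    intro e
    rw [e, mul_zero] at hkey'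
    have : (0 : ℤ) < 2 * (q : ℤ) ^ 2 * n := by
      have : (0 : ℤ) < n := by exact_mod_cast hn
      positivity
    omega
  have habs : (q : ℤ) ^ 2 ≤ |a + b| :=
    Int.le_of_dvd (abs_pos.2 hne) ((dvd_abs _ _).2 hdvd)
  have hsq : ((q : ℤ) ^ 2) ^ 2 ≤ (a + b) ^ 2 := by
    rw [← sq_abs (a + b)]
    exact pow_le_pow_left₀ (by positivity) habs 2
  have hbound : a ^ 2 + b ^ 2 ≤ (q : ℤ) * ((q : ℤ) ^ 2 - 1) := by
    rw [Nat.cast_mul, Nat.cast_sub (Nat.one_le_pow _ _ (by omega))] at hle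
    push_cast at hle
    exact hle
  nlinarith [sq_nonneg (a - b), pow_pos (show (0 : ℤ) < q by omega) 3]

end Loc

/-- A group of Ree type involves the symmetric group of degree three. -/
theorem involves_three_of_isReeType [Finite G] (hR : Cfsg.IsReeType G) :
    Cfsg.Involves (Equiv.Perm (Fin 3)) G := by
  by_contra h3
  obtain ⟨t, K, q, h⟩ := exists_setup hR h3
  obtain ⟨R, A, v, z, f, L⟩ := h.exists_loc
  exact L.elim

end CfsgLib.ReeSThree
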